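import Cfsg.Agent.Mrg.Omega.IId.SymWrD.Mod
import Cfsg.Agent.Mrg.Omega.IId.SymTwo5.Idem
import Cfsg.Agent.Mrg.Omega.IId.SymWrD.Base
import Cfsg.Agent.Mrg.Omega.ThmC.TwoData
import Cfsg.Agent.Mrg.Omega.IId.SwCv.Lab
import Cfsg.Agent.Mrg.Omega.S5.Syl
import Cfsg.Agent.Mrg.Omega.TwoF.RowPSp
import Cfsg.Agent.Mrg.Omega.VP
import Cfsg.Agent.Mrg.Omega.IId.SymWr.Fours

-- merged: Cfsg.Agent.Mrg.Omega.IId.SymWrD.LTwo
section

/-!
# II.d, `SwBig`, `SwCv` (copy of `SymWr/LTwo.lean` for `D` arbitrary): THEOREM L for `m = 2` (bb OMEGA #18061, #18734 (1), (3), (4), #18702 / #18689 the count)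

* `exists_two` : if `W = O₂(C_G(n))` is not in `P`, then there are two elements of `W` which centralise the duads of the
  other summands and map `a = n*` to two different conjugates `≠ a`;
* `LTwo_of` : `O₂(C_G(n)) ≤ P`.
-/

set_option autoImplicit false

namespace Cfsg.Agent.Omega.IId.SymWrD

open Cfsg.Agent.Omega.IId.SymWr
open Subgroup Pointwise Cfsg Cfsg.Agent.ZN Cfsg.Agent.Omega.MinPar Cfsg.Agent.Omega.FFThm
open Cfsg.Agent.Omega.Half (Amb amb_of_loc)
open Cfsg.Agent.Omega.Half.SymA (Pt E Mv pm)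
open Cfsg.Agent.MinSimple.VModule (mem_zc zc_le zc_comm zc_sq zc_le_zl le_normalizer_o2 o2_isPGroup o2_le
  normalizer_le_normalizer_zc le_normalizer_zl)
open Cfsg.Agent.Omega.ThmC (Md)

universe u

variable {G : Type u} [Group G] {P V : Subgroup G} {k : ℕ}

namespace LTwo

/-- the group induced on `Ω₁Z(Q)` by a subgroup `H ≤ N(Q)` -/
noncomputable def img {Q : Subgroup G} (H : Subgroup G) : Subgroup (MulAut ↥(zc Q)) :=
  (H.subgroupOf (normalizer (zc Q : Set G))).map (zc Q).normalizerMonoidHom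

theorem mem_img {Q H : Subgroup G} (hH : H ≤ normalizer (zc Q : Set G)) {f : MulAut ↥(zc Q)} :
    f ∈ img (Q := Q) H ↔ ∃ g, ∃ hg : g ∈ H, Md.cjE (hH hg) = f := by
  constructor
  · rintro ⟨⟨g, hg⟩, h1, rfl⟩
    exact ⟨g, mem_subgroupOf.1 h1, rfl⟩
  · rintro ⟨g, hg, rfl⟩
    exact ⟨⟨g, hH hg⟩, mem_subgroupOf.2 hg, rfl⟩

theorem img_isPGroup {Q H : Subgroup G} (h : IsPGroup 2 H) : IsPGroup 2 (img (Q := Q) H) :=
  (h.comap_of_injective _ Subtype.coe_injective).map _

theorem cjE_mul {Q : Subgroup G} {g g' : G} (hg : g ∈ normalizer (zc Q : Set G)) (hg' : g' ∈ normalizer (zc Q : Set G)) :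
    Md.cjE (X := Q) (mul_mem hg hg') = Md.cjE hg * Md.cjE hg' :=
  map_mul ((zc Q).normalizerMonoidHom) ⟨g, hg⟩ ⟨g', hg'⟩

theorem cjE_inv {Q : Subgroup G} {g : G} (hg : g ∈ normalizer (zc Q : Set G)) :
    Md.cjE (X := Q) (inv_mem hg) = (Md.cjE hg)⁻¹ :=
  map_inv ((zc Q).normalizerMonoidHom) ⟨g, hg⟩

theorem cjE_mul' {Q : Subgroup G} {g g' : G} (hg : g ∈ normalizer (zc Q : Set G))
    (hg' : g' ∈ normalizer (zc Q : Set G)) (h : g * g' ∈ normalizer (zc Q : Set G)) :
    Md.cjE (X := Q) hg * Md.cjE hg' = Md.cjE h := (cjE_mul hg hg').symm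

theorem cjE_conj {Q : Subgroup G} {g g' : G} (hg : g ∈ normalizer (zc Q : Set G))
    (hg' : g' ∈ normalizer (zc Q : Set G)) (h : g * g' * g⁻¹ ∈ normalizer (zc Q : Set G)) :
    Md.cjE (X := Q) hg * Md.cjE hg' * (Md.cjE hg)⁻¹ = Md.cjE h := by
  rw [mul_inv_eq_iff_eq_mul, cjE_mul' hg hg' (mul_mem hg hg'), cjE_mul' h hg (mul_mem h hg)]
  congr 1
  group

end LTwo

open LTwo

section main

variable [Finite G] {S : Sylow 2 G} {M : SymK (S : Subgroup G) P V ⊥ k 2} {μ ν : Equiv.Perm (Pt k 2)}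

omit [Finite G] in
/-- the five points of a summand -/
theorem five (F : Fours M μ ν) {x : Pt k 2} (hx : x.2 ≠ 0) {p : Pt k 2} (hp : p.1 = x.1) :
    p = (x.1, 0) ∨ p = x ∨ p = μ x ∨ p = ν x ∨ p = μ (ν x) := by
  classical
  have hmf := F.mfst
  have hnf := F.nfst
  have hmx : (μ x).2 ≠ 0 := fun h0 => hx (F.mnz.1 h0)
  have hνx : (ν x).2 ≠ 0 := fun h0 => hx (F.nnz.1 h0)
  have hμνx : (μ (ν x)).2 ≠ 0 := fun h0 => hνx (F.mnz.1 h0)
  have d0 : μ x ≠ x := F.mne x hx
  have d1 : ν x ≠ x := F.nne x hx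
  have d2 : ν x ≠ μ x := F.nmu x hx
  have d3 : μ (ν x) ≠ x := by
    intro h0
    have h1 := congrArg μ h0
    rw [F.msq] at h1
    exact d2 h1
  have d4 : μ (ν x) ≠ μ x := fun h0 => d1 (μ.injective h0)
  have d5 : ν x ≠ μ (ν x) := (F.mne _ hνx).symm
  by_contra h0
  push Not at h0
  obtain ⟨h1, h2, h3, h4, h5⟩ := h0
  have hp2 : p.2 ≠ 0 := fun h6 => h1 (Prod.ext hp h6)
  -- six elements of `Fin 5`
  have e : ∀ {q r : Pt k 2}, q.1 = x.1 → r.1 = x.1 → q ≠ r → q.2 ≠ r.2 := fun hq hr hne h6 =>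
    hne (Prod.ext (hq.trans hr.symm) h6)
  have hc : ({0, x.2, (μ x).2, (ν x).2, (μ (ν x)).2, p.2} : Finset (Fin (2 ^ 2 + 1))).card = 6 := by
    have k1 := e (hmf x) rfl d0
    have k2 := e (hnf x) rfl d1
    have k3 := e ((hmf _).trans (hnf x)) rfl d3
    have k4 := e hp rfl h2
    have k5 := e (hnf x) (hmf x) d2
    have k6 := e ((hmf _).trans (hnf x)) (hmf x) d4
    have k7 := e hp (hmf x) h3
    have k8 := e ((hmf _).trans (hnf x)) (hnf x) d5.symm
    have k9 := e hp (hnf x) h4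
    have k10 := e hp ((hmf _).trans (hnf x)) h5
    rw [Finset.card_insert_of_notMem, Finset.card_insert_of_notMem, Finset.card_insert_of_notMem,
      Finset.card_insert_of_notMem, Finset.card_insert_of_notMem, Finset.card_singleton]
    all_goals simp only [Finset.mem_insert, Finset.mem_singleton, not_or]
    · exact k10.symm
    · exact ⟨k8.symm, k9.symm⟩
    · exact ⟨k5.symm, k6.symm, k7.symm⟩
    · exact ⟨k1.symm, k2.symm, k3.symm, k4.symm⟩
    · exact ⟨hx.symm, hmx.symm, hνx.symm, hμνx.symm, hp2.symm⟩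
  have := Finset.card_le_univ ({0, x.2, (μ x).2, (ν x).2, (μ (ν x)).2, p.2} : Finset (Fin (2 ^ 2 + 1)))
  rw [hc, Fintype.card_fin] at this
  omega

theorem exists_two {D : Subgroup G} (hD : SitD S P V D M) (F : Fours M μ ν) {x : Pt k 2} (hx : x.2 ≠ 0)
    (hT : TT hD.toSit F x)
    (hWP : ¬ o2 (centralizer ({pr M x (μ x)} : Set G)) ≤ P) :
    ∃ y ∈ o2 (centralizer ({pr M x (μ x)} : Set G)), ∃ y' ∈ o2 (centralizer ({pr M x (μ x)} : Set G)),
      (∀ q : Pt k 2, q.1 ≠ x.1 → y * pr M q (μ q) = pr M q (μ q) * y ∧ y' * pr M q (μ q) = pr M q (μ q) * y') ∧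
      y * pr M (ν x) (μ (ν x)) * y⁻¹ ≠ pr M (ν x) (μ (ν x)) ∧
      y' * pr M (ν x) (μ (ν x)) * y'⁻¹ ≠ pr M (ν x) (μ (ν x)) ∧
      y * pr M (ν x) (μ (ν x)) * y⁻¹ ≠ y' * pr M (ν x) (μ (ν x)) * y'⁻¹ := by
  have h : Sit S P V M := hD.toSit
  classical
  have hHH := HH_all hD F x.1
  set n := pr M x (μ x) with hn
  set C := centralizer ({n} : Set G) with hC
  set W := o2 C with hW
  obtain ⟨hT1, hT2⟩ := hT
  have hmf := F.mfst
  have hnf := F.nfst
  have hmx : (μ x).2 ≠ 0 := fun h0 => hx (F.mnz.1 h0)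
  have hνx : (ν x).2 ≠ 0 := fun h0 => hx (F.nnz.1 h0)
  have hμνx : (μ (ν x)).2 ≠ 0 := fun h0 => hνx (F.mnz.1 h0)
  have hnV : n ∈ V := pr_mem M _ _
  have hmemC : ∀ g, g ∈ C ↔ g * n = n * g := by
    intro g
    rw [hC, mem_centralizer_singleton_iff]
  have hVQ : V ≤ o2 P := h.VZ.trans (zc_le _)
  have hVcQ : ∀ q ∈ o2 P, ∀ v ∈ V, q * v = v * q := fun q hq v hv => (mem_zc.1 (h.VZ hv)).2.1 q hq
  have hWC : W ≤ C := o2_le C
  have hCW : C ≤ normalizer (W : Set G) := le_normalizer_o2 C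
  have hW2 : IsPGroup 2 W := o2_isPGroup C
  have hAcomm : ∀ t ∈ Fours.A h F, ∀ y : Pt k 2, t * pr M y (μ y) = pr M y (μ y) * t := by
    intro t ht y
    refine h.comm_pr (h.SP ht.1) (hmf y).symm ?_
    have h1 := F.FA_comm_mu ht.2 y
    rcases ht.2 y with h2 | h2
    · left; exact ⟨h2, by rw [h1, h2]⟩
    · right; exact ⟨h2, by rw [h1, h2, F.msq]⟩
  have hAC : Fours.A h F ≤ C := fun t ht => (hmemC t).2 (hAcomm t ht x)
  have hScomm : ∀ s ∈ (S : Subgroup G), (∀ p : Pt k 2, p.1 = x.1 → pp M s p = p) → ∀ y : Pt k 2, y.1 = x.1 →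
      s * pr M y (μ y) = pr M y (μ y) * s := by
    intro s hs h1 y hy
    exact h.comm_pr (h.SP hs) (hmf y).symm (Or.inl ⟨h1 y hy, h1 _ ((hmf y).trans hy)⟩)
  -- `X₀`
  set X := W ⊓ P with hX
  have hXd : ∀ g ∈ X, ∀ a b : Pt k 2, a.1 = b.1 → a ≠ x → a ≠ μ x → b ≠ x → b ≠ μ x →
      g * pr M a b = pr M a b * g := by
    intro g hg a b hab h1 h2 h3 h4
    refine h.comm_pr hg.2 hab (Or.inl ?_)
    rcases hT2 g hg.1 hg.2 with h5 | h5
    · rw [h5]; exact ⟨rfl, rfl⟩
    · rw [h5, Equiv.swap_apply_of_ne_of_ne h1 h2, Equiv.swap_apply_of_ne_of_ne h3 h4]; exact ⟨rfl, rfl⟩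
  have d1 : ν x ≠ x := F.nne x hx
  have d2 : ν x ≠ μ x := F.nmu x hx
  have d3 : μ (ν x) ≠ x := by
    intro h0
    have h1 := congrArg μ h0
    rw [F.msq] at h1
    exact d2 h1
  have d4 : μ (ν x) ≠ μ x := fun h0 => d1 (μ.injective h0)
  have d5 : ν x ≠ μ (ν x) := (F.mne _ hνx).symm
  have hXA : X ≤ Fours.A h F := by
    intro g hg
    refine hT1 g hg.1 (ν x) (μ (ν x)) (hnf x) ((hmf _).trans (hnf x)) d5 d1 d2 d3 d4 ?_
    exact hXd g hg _ _ (hmf _).symm d1 d2 d3 d4
  have hAX : ∀ g ∈ W, g ∈ Fours.A h F → g ∈ X := fun g hg hgA => ⟨hg, h.SP hgA.1⟩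
  -- `Q⁺`
  set Q := o2 P ⊔ X with hQ
  have hQA : Q ≤ Fours.A h F := sup_le (Fours.Q_le_A h F) hXA
  have hQC : Q ≤ C := hQA.trans hAC
  have hQ2 : IsPGroup 2 Q := S.isPGroup'.to_le (hQA.trans (Fours.A_le h F))
  have hPX : C ⊓ P ≤ normalizer (X : Set G) := by
    intro g hg
    refine MinSimple.VModule.mem_normalizer_of_map_le ?_
    rintro _ ⟨a, ha, rfl⟩
    change g * a * g⁻¹ ∈ X
    exact ⟨(mem_normalizer_iff.1 (hCW hg.1) a).1 ha.1, P.mul_mem (P.mul_mem hg.2 ha.2) (P.inv_mem hg.2)⟩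
  have hPQ : C ⊓ P ≤ normalizer (Q : Set G) := by
    intro g hg
    refine MinSimple.VModule.mem_normalizer_of_map_le ?_
    rw [hQ, Subgroup.map_sup]
    apply sup_le_sup
    · rintro _ ⟨a, ha, rfl⟩
      exact (mem_normalizer_iff.1 (le_normalizer_o2 P hg.2) a).1 ha
    · rintro _ ⟨a, ha, rfl⟩
      exact (mem_normalizer_iff.1 (hPX hg) a).1 ha
  have hWQ : ∀ g ∈ W, g ∈ Q → g ∈ X := fun g hg hgQ => hAX g hg (hQA hgQ)
  -- `b₀ ∈ W` normalising `Q⁺`, not in `P`
  set W1 := W ⊓ normalizer (Q : Set G) with hW1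
  have hnot1 : ¬ W1 ≤ P := by
    intro h0
    have hlt : Q < Q ⊔ W := by
      refine lt_of_le_of_ne le_sup_left fun h1 => hWP ?_
      have h2 : W ≤ Q := by rw [h1]; exact le_sup_right
      exact h2.trans (hQA.trans ((Fours.A_le h F).trans h.SP))
    have h2 : IsPGroup 2 (Q ⊔ W : Subgroup G) := hQ2.to_sup_of_normal_right' hW2 (hQC.trans hCW)
    obtain ⟨s, hs, hsn, hsQ, -⟩ := MinSimple.Choice97.exists_normalizing h2 hlt
    obtain ⟨q, hq, w, hw, rfl⟩ := mem_sup_norm (hQC.trans hCW) hs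
    have hwn : w ∈ normalizer (Q : Set G) := by
      have h3 := (normalizer (Q : Set G)).mul_mem ((normalizer (Q : Set G)).inv_mem (le_normalizer hq)) hsn
      rwa [inv_mul_cancel_left] at h3
    exact hsQ (mul_mem hq (mem_sup_right ⟨hw, h0 ⟨hw, hwn⟩⟩))
  -- `T_n`
  set T := (S : Subgroup G) ⊓ C with hT
  have hTP : T ≤ C ⊓ P := fun t ht => ⟨ht.2, h.SP ht.1⟩
  have hT2' : IsPGroup 2 T := S.isPGroup'.to_le inf_le_left
  have hPW1 : ∀ g ∈ C ⊓ P, ∀ a ∈ W1, g * a * g⁻¹ ∈ W1 := by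
    intro t ht a ha
    have h1 := hPQ ht
    exact ⟨(mem_normalizer_iff.1 (hCW ht.1) a).1 ha.1,
      (normalizer (Q : Set G)).mul_mem ((normalizer (Q : Set G)).mul_mem h1 ha.2)
        ((normalizer (Q : Set G)).inv_mem h1)⟩
  have hXT : X ≤ T := fun g hg => ⟨(hXA hg).1, hWC hg.1⟩
  -- `Z⁺`
  set Z := zc Q with hZ
  have hZZ : ∀ y ∈ Z, y ∈ zc (o2 P) := by
    intro y hy
    obtain ⟨h1, h2, h3⟩ := mem_zc.1 hy
    have h4 : y ∈ o2 P := h.cQ (mem_centralizer_iff.2 fun q hq => h2 q (mem_sup_left hq))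
    exact mem_zc.2 ⟨h4, fun q hq => h2 q (mem_sup_left hq), h3⟩
  have hXZ : ∀ g ∈ X, ∀ y ∈ Z, g * y = y * g := fun g hg y hy => (mem_zc.1 hy).2.1 g (mem_sup_right hg)
  have hdZ : ∀ a c : Pt k 2, a.1 = c.1 → a ≠ x → a ≠ μ x → c ≠ x → c ≠ μ x → pr M a c ∈ Z := by
    intro a c hac h1 h2 h3 h4
    refine mem_zc.2 ⟨mem_sup_left (hVQ (pr_mem M _ _)), ?_, by rw [pow_two]; exact h.Vsq (pr_mem M _ _)⟩
    have h5 : Q ≤ centralizer ({pr M a c} : Set G) := by
      refine sup_le (fun q hq => mem_centralizer_singleton_iff.2 (hVcQ q hq _ (pr_mem M _ _))) fun q hq => ?_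
      exact mem_centralizer_singleton_iff.2 (hXd q hq a c hac h1 h2 h3 h4)
    intro q hq
    exact mem_centralizer_singleton_iff.1 (h5 hq)
  -- `a`
  set q0 := pr M (ν x) (μ (ν x)) with hq0
  have hq0Z : q0 ∈ Z := hdZ _ _ (hmf _).symm d1 d2 d3 d4
  have hTpt : ∀ t ∈ T, pp M t x = x ∨ pp M t x = μ x := by
    intro t ht
    have h1 : E M n (pp M t x) = 1 := by
      rw [(h.comm_iff (h.SP ht.1) hnV).1 ((hmemC t).1 ht.2) x]
      exact E_pr_left M (hmf x).symm (F.mne x hx).symm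
    by_contra h0
    push Not at h0
    rw [E_pr_of_ne M (hmf x).symm h0.1 h0.2] at h1
    exact zero_ne_one h1
  have hTν : ∀ t ∈ T, pp M t (ν x) = ν x ∨ pp M t (ν x) = μ (ν x) := by
    intro t ht
    rcases hTpt t ht with h2 | h2
    · rcases F.neqv t ht.1 x with h5 | h5
      · left; rw [h5, h2]
      · right; rw [h5, h2]
    · rcases F.neqv t ht.1 x with h5 | h5
      · right; rw [h5, h2, F.comm]
      · left; rw [h5, h2, ← F.comm, F.msq]
  have hTq0 : ∀ t ∈ T, t * q0 = q0 * t := by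
    intro t ht
    refine h.comm_pr (h.SP ht.1) (hmf _).symm ?_
    have h3 : pp M t (μ (ν x)) = μ (pp M t (ν x)) := F.meqv t ht.1 _
    rcases hTν t ht with h4 | h4
    · left; exact ⟨h4, by rw [h3, h4]⟩
    · right; exact ⟨h4, by rw [h3, h4, F.msq]⟩
  have hAT : Fours.A h F ≤ T := fun t ht => ⟨ht.1, hAC ht⟩
  have hST : ∀ s ∈ (S : Subgroup G), (∀ p : Pt k 2, p.1 = x.1 → pp M s p = p) → s ∈ T := fun s hs h1 =>
    ⟨hs, (hmemC s).2 (hScomm s hs h1 x rfl)⟩
  -- the 3-cycle `(0, νx, μνx)`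
  set e0 : Pt k 2 := (x.1, 0) with he0
  have h01 : e0 ≠ ν x := fun h0 => hνx (by rw [← h0])
  have h02 : e0 ≠ μ (ν x) := fun h0 => hμνx (by rw [← h0])
  have h0x : e0 ≠ x := fun h0 => hx (by rw [← h0])
  have h0m : e0 ≠ μ x := fun h0 => hmx (by rw [← h0])
  have f01 : e0.1 = (ν x).1 := (hnf x).symm
  have f12 : (ν x).1 = (μ (ν x)).1 := (hmf _).symm
  obtain ⟨g, hg, c1, c2, c3, c4⟩ := h.exists_cyc (a := e0) (b := ν x) (c := μ (ν x)) f01 f12 h01 d5 h02
  have hgB : ∀ p : Pt k 2, p.1 ≠ x.1 → pp M g p = p := by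
    intro p hp
    refine c4 p ?_ ?_ ?_
    · rintro rfl; exact hp rfl
    · rintro rfl; exact hp (hnf x)
    · rintro rfl; exact hp ((hmf _).trans (hnf x))
  have gx : pp M g x = x := c4 x h0x.symm d1.symm d3.symm
  have gmx : pp M g (μ x) = μ x := c4 _ h0m.symm d2.symm d4.symm
  have hgn : g * n = n * g := h.comm_pr hg (hmf x).symm (Or.inl ⟨gx, gmx⟩)
  have hgCP : g ∈ C ⊓ P := ⟨(hmemC g).2 hgn, hg⟩
  -- the normaliser of `Z`
  have hNP : C ⊓ P ≤ normalizer (zc Q : Set G) := hPQ.trans (normalizer_le_normalizer_zc _)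
  have hNT : T ≤ normalizer (zc Q : Set G) := hTP.trans hNP
  have hNW : W1 ≤ normalizer (zc Q : Set G) := inf_le_right.trans (normalizer_le_normalizer_zc _)
  -- elements of `P` with the same permutation act in the same way
  have hsame : ∀ a b : G, ∀ (ha : a ∈ C ⊓ P) (hb : b ∈ C ⊓ P), pp M a = pp M b →
      Md.cjE (X := Q) (hNP ha) = Md.cjE (hNP hb) := by
    intro a b ha hb hab
    refine Md.ext_smul fun v => Md.ext ?_
    rw [Md.val_cjE, Md.val_cjE]
    have h1 : b⁻¹ * a ∈ P ⊓ centralizer (V : Set G) := by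
      refine mem_inf.2 ⟨P.mul_mem (P.inv_mem hb.2) ha.2, ?_⟩
      rw [← h.eq_one_iff (P.mul_mem (P.inv_mem hb.2) ha.2), h.mul (P.inv_mem hb.2) ha.2, h.inv hb.2, hab,
        inv_mul_cancel]
    have h2 := mem_centralizer_iff.1 (h.cZ h1) v.val (hZZ _ (Md.val_mem v))
    calc a * v.val * a⁻¹ = b * ((b⁻¹ * a) * v.val) * a⁻¹ := by group
      _ = b * (v.val * (b⁻¹ * a)) * a⁻¹ := by rw [h2]
      _ = b * v.val * b⁻¹ := by group
  set xb : MulAut ↥(zc Q) := Md.cjE (hNP hgCP) with hxb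
  have hx3 : xb * xb * xb = 1 := by
    have h1 : pp M (g * g * g) = pp M 1 := by
      rw [h.mul (P.mul_mem hg hg) hg, h.mul hg hg, h.one]
      ext1 p
      rw [Equiv.Perm.mul_apply, Equiv.Perm.mul_apply, Equiv.Perm.one_apply]
      by_cases p1 : p = e0
      · rw [p1, c1, c2, c3]
      · by_cases p2 : p = ν x
        · rw [p2, c2, c3, c1]
        · by_cases p3 : p = μ (ν x)
          · rw [p3, c3, c1, c2]
          · rw [c4 p p1 p2 p3, c4 p p1 p2 p3, c4 p p1 p2 p3]
    have h2 := hsame _ _ ((C ⊓ P).mul_mem ((C ⊓ P).mul_mem hgCP hgCP) hgCP) (one_mem _) h1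
    have h3 : Md.cjE (X := Q) (hNP (one_mem (C ⊓ P))) = 1 := map_one ((zc Q).normalizerMonoidHom)
    rw [h3] at h2
    rw [← h2, hxb, cjE_mul' _ _ (hNP ((C ⊓ P).mul_mem hgCP hgCP)), cjE_mul']
  have hTx : ∀ t ∈ img (Q := Q) T, t * xb * t⁻¹ = xb ∨ t * xb * t⁻¹ = xb⁻¹ := by
    intro t' ht'
    obtain ⟨t, ht, rfl⟩ := (mem_img hNT).1 ht'
    have htCP := hTP ht
    have htP := htCP.2
    have k3 : pp M t (μ (ν x)) = μ (pp M t (ν x)) := F.meqv t ht.1 _
    have k0 : pp M t e0 = e0 := by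
      have h1 : (pp M t e0).2 = 0 := (h.snd ht.1).2 rfl
      have h2 : (pp M t e0).1 = x.1 := by
        rw [h.fst htP (p := e0) (q := x) rfl]
        rcases hTpt t ht with h3 | h3
        · rw [h3]
        · rw [h3, hmf]
      exact Prod.ext h2 h1
    have hrest : ∀ p, p ≠ e0 → p ≠ ν x → p ≠ μ (ν x) → pp M t p ≠ e0 ∧ pp M t p ≠ ν x ∧ pp M t p ≠ μ (ν x) := by
      intro p p1 p2 p3
      refine ⟨fun h0 => p1 ((pp M t).injective (h0.trans k0.symm)), ?_, ?_⟩
      · intro h0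
        rcases hTν t ht with h4 | h4
        · exact p2 ((pp M t).injective (h0.trans h4.symm))
        · refine p3 ((pp M t).injective (h0.trans ?_))
          rw [k3, h4, F.msq]
      · intro h0
        rcases hTν t ht with h4 | h4
        · refine p3 ((pp M t).injective (h0.trans ?_))
          rw [k3, h4]
        · exact p2 ((pp M t).injective (h0.trans h4.symm))
    have hconj : t * g * t⁻¹ ∈ C ⊓ P := (C ⊓ P).mul_mem ((C ⊓ P).mul_mem htCP hgCP) ((C ⊓ P).inv_mem htCP)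
    have hcE : Md.cjE (hNT ht) * xb * (Md.cjE (hNT ht))⁻¹ = Md.cjE (X := Q) (hNP hconj) :=
      cjE_conj _ _ _
    have hpc : pp M (t * g * t⁻¹) = pp M t * pp M g * (pp M t)⁻¹ := h.conj htP hg
    rcases hTν t ht with h4 | h4
    · left
      rw [hcE]
      refine hsame _ _ hconj hgCP ?_
      rw [hpc, mul_inv_eq_iff_eq_mul]
      ext1 p
      rw [Equiv.Perm.mul_apply, Equiv.Perm.mul_apply]
      by_cases p1 : p = e0
      · rw [p1, k0, c1, h4]
      · by_cases p2 : p = ν x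
        · rw [p2, c2, h4, c2, k3, h4]
        · by_cases p3 : p = μ (ν x)
          · rw [p3, c3, k3, h4, c3, k0]
          · obtain ⟨r1, r2, r3⟩ := hrest p p1 p2 p3
            rw [c4 p p1 p2 p3, c4 _ r1 r2 r3]
    · right
      rw [hcE]
      have h5 : xb⁻¹ = Md.cjE (X := Q) (hNP ((C ⊓ P).inv_mem hgCP)) := (cjE_inv _).symm
      rw [h5]
      refine hsame _ _ hconj ((C ⊓ P).inv_mem hgCP) ?_
      rw [hpc, h.inv hg, mul_inv_eq_iff_eq_mul, eq_inv_mul_iff_mul_eq]
      ext1 p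
      rw [Equiv.Perm.mul_apply, Equiv.Perm.mul_apply]
      have k5 : pp M t (μ (ν x)) = ν x := by rw [k3, h4, F.msq]
      by_cases p1 : p = e0
      · rw [p1, k0, c1, h4, c3]
      · by_cases p2 : p = ν x
        · rw [p2, c2, h4, k5, c2]
        · by_cases p3 : p = μ (ν x)
          · rw [p3, c3, k5, k0, c1]
          · obtain ⟨r1, r2, r3⟩ := hrest p p1 p2 p3
            rw [c4 p p1 p2 p3, c4 _ r1 r2 r3]
  -- `a`
  set a : Md Q := Md.mk q0 hq0Z with ha
  have hTa : ∀ t ∈ img (Q := Q) T, t • a = a := by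
    intro t' ht'
    obtain ⟨t, ht, rfl⟩ := (mem_img hNT).1 ht'
    refine Md.ext ?_
    rw [Md.val_cjE, ha, Md.val_mk, hTq0 t ht, mul_inv_cancel_right]
  have hWa : ∀ w ∈ img (Q := Q) W1, w • a = a → w = 1 := by
    intro w' hw' hwa
    obtain ⟨w, hw, rfl⟩ := (mem_img hNW).1 hw'
    have h1 : w * q0 = q0 * w := by
      have h2 := congrArg Md.val hwa
      rw [Md.val_cjE, ha, Md.val_mk] at h2
      exact mul_inv_eq_iff_eq_mul.1 h2
    have h2 : w ∈ X := hAX w hw.1 (hT1 w hw.1 (ν x) (μ (ν x)) (hnf x) ((hmf _).trans (hnf x)) d5 d1 d2 d3 d4 h1)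
    refine Md.faith fun v => Md.ext ?_
    rw [Md.val_cjE, hXZ w h2 _ (Md.val_mem v), mul_inv_cancel_right]
  have hxa : a + xb • a + xb • xb • a = 0 := by
    refine Md.ext ?_
    have f20 : (μ (ν x)).1 = e0.1 := f12.symm.trans f01.symm
    rw [Md.val_add, Md.val_add, Md.val_zero, Md.val_cjE, Md.val_cjE, Md.val_cjE, ha, Md.val_mk, hq0,
      h.conj_pr hg f12, c2, c3, h.conj_pr hg f20, c3, c1, pr_mul M f12 f20, pr_comm M f01,
      h.Vsq (pr_mem M _ _)]
  have hfx : ∀ v : Md Q, (∀ t ∈ img (Q := Q) T, t • v = v) → v + xb • v + xb • xb • v = 0 → v = 0 ∨ v = a := by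
    intro v hv htr
    have hvZ : v.val ∈ zc (o2 P) := hZZ _ (Md.val_mem v)
    have hTv : ∀ t ∈ T, t * v.val = v.val * t := by
      intro t ht
      have h1 := congrArg Md.val (hv _ ((mem_img hNT).2 ⟨t, ht, rfl⟩))
      rw [Md.val_cjE] at h1
      exact mul_inv_eq_iff_eq_mul.1 h1
    obtain ⟨v0, hv0V, φ, hφZ, hv1, hv0, hvμ, hφ, hvφ⟩ := hHH v.val hvZ (fun t ht => hTv t (hAT ht))
      (fun s hs h1 => hTv s (hST s hs h1))
    have hZcomm : ∀ a ∈ zc (o2 P), ∀ c ∈ zc (o2 P), a * c = c * a := fun a ha c hc => Sit.zz_comm ha hc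
    have hgφ : g * φ * g⁻¹ = φ := by rw [hφ g hg hgB, mul_inv_cancel_right]
    obtain ⟨v2, hv2⟩ : ∃ v2, v2 = g * v0 * g⁻¹ := ⟨_, rfl⟩
    obtain ⟨v3, hv3⟩ : ∃ v3, v3 = g * v2 * g⁻¹ := ⟨_, rfl⟩
    have hv2V : v2 ∈ V := hv2 ▸ h.amb.conj_mem hg hv0V
    have hv3V : v3 ∈ V := hv3 ▸ h.amb.conj_mem hg hv2V
    have e7 : g * v.val * g⁻¹ = v2 * φ := by
      rw [hvφ]
      calc g * (v0 * φ) * g⁻¹ = (g * v0 * g⁻¹) * (g * φ * g⁻¹) := by group
        _ = v2 * φ := by rw [hgφ, hv2]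
    have e8 : g * (g * v.val * g⁻¹) * g⁻¹ = v3 * φ := by
      rw [e7]
      calc g * (v2 * φ) * g⁻¹ = (g * v2 * g⁻¹) * (g * φ * g⁻¹) := by group
        _ = v3 * φ := by rw [hgφ, hv3]
    have e6 : v.val * (g * v.val * g⁻¹) * (g * (g * v.val * g⁻¹) * g⁻¹) = 1 := by
      have h1 := congrArg Md.val htr
      rwa [Md.val_add, Md.val_add, Md.val_zero, Md.val_cjE, Md.val_cjE, Md.val_cjE] at h1
    have hφφ : φ * φ = 1 := Sit.zz_sq hφZ
    have e9 : v0 * v2 * v3 * φ = 1 := by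
      rw [e8, e7, hvφ] at e6
      have k1 := hZcomm _ hφZ _ (h.VZ hv2V)
      have k2 := hZcomm _ hφZ _ (h.VZ hv3V)
      calc v0 * v2 * v3 * φ = v0 * v2 * v3 * φ * (φ * φ) := by rw [hφφ, mul_one]
        _ = v0 * v2 * (v3 * φ) * φ * φ := by group
        _ = v0 * v2 * (φ * v3) * φ * φ := by rw [k2]
        _ = v0 * (v2 * φ) * (v3 * φ) * φ := by group
        _ = v0 * (φ * v2) * (φ * v3) * φ := by rw [k1, k2]
        _ = v0 * φ * (v2 * φ) * (v3 * φ) := by group
        _ = 1 := e6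
    have e10 : φ = v0 * v2 * v3 := by
      have k1 := mul_eq_one_iff_eq_inv.1 e9
      rw [k1, eq_comm]
      exact inv_eq_of_mul_eq_one_left hφφ
    have hEg : ∀ a ∈ V, (∀ p : Pt k 2, p.1 ≠ x.1 → E M a p = 0) →
        ∀ p : Pt k 2, p.1 ≠ x.1 → E M (g * a * g⁻¹) p = 0 := by
      intro a ha h1 p hp
      have h2 := E_conj (M := M) hg ha p
      rw [hgB p hp] at h2
      rw [h2, h1 p hp]
    have hv21 := hEg v0 hv0V hv1
    rw [← hv2] at hv21
    have hv31 := hEg v2 hv2V hv21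
    rw [← hv3] at hv31
    have hφV : φ ∈ V := by rw [e10]; exact V.mul_mem (V.mul_mem hv0V hv2V) hv3V
    have hφone : φ = 1 := by
      refine h.eq_one_of_fixed (l := x.1) hφV (fun p hp => ?_) hφ
      rw [e10, Half.SymA.E_mul M (V.mul_mem hv0V hv2V) hv3V, Half.SymA.E_mul M hv0V hv2V, hv1 p hp, hv21 p hp,
        hv31 p hp]
      rfl
    rw [hφone] at e10
    have hvv0 : v.val = v0 := by rw [hvφ, hφone, mul_one]
    have hEx : E M v0 x = 0 := by
      have k2 : E M v2 x = E M v0 x := by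
        have := E_conj (M := M) hg hv0V x
        rwa [gx, ← hv2] at this
      have k3 : E M v3 x = E M v2 x := by
        have := E_conj (M := M) hg hv2V x
        rwa [gx, ← hv3] at this
      have k4 : E M (v0 * v2 * v3) x = 0 := by rw [← e10, Half.SymA.E_one]
      rw [Half.SymA.E_mul M (V.mul_mem hv0V hv2V) hv3V, Half.SymA.E_mul M hv0V hv2V, k3, k2] at k4
      have k5 : ∀ a : ZMod 2, a + a + a = 0 → a = 0 := by decide
      exact k5 _ k4
    rcases Half.SymA.zmod2 (E M v0 (ν x)) with h1 | h1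
    · left
      refine Md.ext ?_
      rw [hvv0, Md.val_zero]
      refine Half.SymA.eq_one M hv0V fun p => ?_
      by_cases hp : p.1 = x.1
      · rcases five F hx hp with rfl | rfl | rfl | rfl | rfl
        · exact hv0
        · exact hEx
        · rw [hvμ, hEx]
        · exact h1
        · rw [hvμ, h1]
      · exact hv1 p hp
    · right
      refine Md.ext ?_
      rw [hvv0, ha, Md.val_mk]
      refine Half.SymA.inj M hv0V (pr_mem M _ _) fun p => ?_
      by_cases hp : p.1 = x.1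
      · rcases five F hx hp with rfl | rfl | rfl | rfl | rfl
        · rw [hv0, E_pr_of_ne M f12 h01 h02]
        · rw [hEx, E_pr_of_ne M f12 d1.symm d3.symm]
        · rw [hvμ, hEx, E_pr_of_ne M f12 d2.symm d4.symm]
        · rw [h1, E_pr_left M f12 d5]
        · rw [hvμ, h1, E_pr_right M f12 d5]
      · rw [hv1 p hp, E_pr_of_ne M f12]
        · rintro rfl; exact hp (hnf x)
        · rintro rfl; exact hp ((hmf _).trans (hnf x))
  have hTW : img (Q := Q) T ≤ normalizer (img (Q := Q) W1 : Set (MulAut ↥(zc Q))) := by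
    intro t' ht'
    obtain ⟨t, ht, rfl⟩ := (mem_img hNT).1 ht'
    refine MinSimple.VModule.mem_normalizer_of_map_le ?_
    rintro _ ⟨w', hw', rfl⟩
    obtain ⟨w, hw, rfl⟩ := (mem_img hNW).1 hw'
    exact (mem_img hNW).2 ⟨t * w * t⁻¹, hPW1 t (hTP ht) w hw, (cjE_conj _ _ _).symm⟩
  have hxW : xb ∈ normalizer (img (Q := Q) W1 : Set (MulAut ↥(zc Q))) := by
    refine MinSimple.VModule.mem_normalizer_of_map_le ?_
    rintro _ ⟨w', hw', rfl⟩
    obtain ⟨w, hw, rfl⟩ := (mem_img hNW).1 hw'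
    exact (mem_img hNW).2 ⟨g * w * g⁻¹, hPW1 g hgCP w hw, (cjE_conj _ _ _).symm⟩
  have hne : img (Q := Q) W1 ≠ ⊥ := by
    intro h0
    apply hnot1
    intro w hw
    have h1 : Md.cjE (X := Q) (hNW hw) ∈ img (Q := Q) W1 := (mem_img hNW).2 ⟨w, hw, rfl⟩
    rw [h0, mem_bot] at h1
    have h2 : w * q0 = q0 * w := by
      have h3 : Md.cjE (X := Q) (hNW hw) • a = a := by rw [h1, one_smul]
      have h4 := congrArg Md.val h3
      rw [Md.val_cjE, ha, Md.val_mk] at h4
      exact mul_inv_eq_iff_eq_mul.1 h4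
    exact (hAX w hw.1 (hT1 w hw.1 (ν x) (μ (ν x)) (hnf x) ((hmf _).trans (hnf x)) d5 d1 d2 d3 d4 h2)).2
  obtain ⟨y', hy', z', hz', hy1, hz1, hyz, hfix⟩ := LTwoLin.main (N := MulAut ↥(zc Q)) (A := Md Q) Md.two
    (img_isPGroup hT2') (img_isPGroup (hW2.to_le inf_le_left)) hne hTW hxW hx3 hTx hfx hTa hxa hWa
  obtain ⟨y, hy, rfl⟩ := (mem_img hNW).1 hy'
  obtain ⟨z, hz, rfl⟩ := (mem_img hNW).1 hz'
  refine ⟨y, hy.1, z, hz.1, ?_, ?_, ?_, ?_⟩
  · intro q hq
    have hne1 : ∀ p : Pt k 2, p.1 = x.1 → q ≠ p := by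
      rintro p hp rfl
      exact hq hp
    have hne2 : ∀ p : Pt k 2, p.1 = x.1 → μ q ≠ p := by
      rintro p hp rfl
      exact hq ((hmf q).symm.trans hp)
    have hqZ : pr M q (μ q) ∈ Z := hdZ _ _ (hmf q).symm (hne1 _ rfl) (hne1 _ (hmf x)) (hne2 _ rfl) (hne2 _ (hmf x))
    have h1 : xb • Md.mk (X := Q) _ hqZ = Md.mk _ hqZ := by
      refine Md.ext ?_
      rw [Md.val_cjE, Md.val_mk, h.conj_pr hg (hmf q).symm, hgB q hq, hgB _ (by rw [hmf]; exact hq)]
    obtain ⟨h2, h3⟩ := hfix _ h1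
    have h4 := congrArg Md.val h2
    have h5 := congrArg Md.val h3
    rw [Md.val_cjE, Md.val_mk] at h4 h5
    exact ⟨mul_inv_eq_iff_eq_mul.1 h4, mul_inv_eq_iff_eq_mul.1 h5⟩
  · intro h0
    refine hy1 (hWa _ hy' (Md.ext ?_))
    rw [Md.val_cjE, ha, Md.val_mk]
    exact h0
  · intro h0
    refine hz1 (hWa _ hz' (Md.ext ?_))
    rw [Md.val_cjE, ha, Md.val_mk]
    exact h0
  · intro h0
    apply hyz
    have h1 : (Md.cjE (X := Q) (hNW hz))⁻¹ * Md.cjE (hNW hy) = 1 := by
      refine hWa _ (mul_mem (inv_mem hz') hy') ?_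
      rw [mul_smul, inv_smul_eq_iff]
      refine Md.ext ?_
      rw [Md.val_cjE, Md.val_cjE, ha, Md.val_mk]
      exact h0
    exact (inv_mul_eq_one.1 h1).symm

/-- **THEOREM L for `m = 2`** (bb OMEGA #18061, #18702, #18734), from (T). -/
theorem LTwo_of {D : Subgroup G} (hD : SitD S P V D M) (F : Fours M μ ν)
    (hT : ∀ y : Pt k 2, y.2 ≠ 0 → TT hD.toSit F y) {x : Pt k 2}
    (hx : x.2 ≠ 0) : o2 (centralizer ({pr M x (μ x)} : Set G)) ≤ P := by
  have h : Sit S P V M := hD.toSit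
  classical
  by_contra hWP
  have : Nonempty (Fin k) := ⟨⟨0, h.hk⟩⟩
  have h2 : ∀ l : Fin k, ((l, 1) : Pt k 2).2 ≠ 0 := fun l => by
    change (1 : Fin (2 ^ 2 + 1)) ≠ 0
    decide
  refine false_of_three (ι := Fin k) S (A := Fours.A h F) (S.isPGroup'.to_le (Fours.A_le h F))
    (a := fun l => pr M (ν (l, 1)) (μ (ν (l, 1)))) (n := fun l => pr M (l, 1) (μ (l, 1))) ?_ ?_ ?_
    (LTwoTr.act h F) ?_ ?_
  · intro y hy l
    exact (LTwoTr.comm_all_iff h F hy.1).2 hy _ (fun h0 => h2 l (F.nnz.1 h0))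
  · intro y hy l
    exact (LTwoTr.comm_all_iff h F hy.1).2 hy _ (h2 l)
  · intro l
    obtain ⟨y, hy, y', hy', h3, h4, h5, h6⟩ := exists_two hD F (h2 l) (hT _ (h2 l))
      (LTwoTr.not_le_of h F hx (h2 l) hWP)
    refine ⟨y, hy, y', hy', fun j hj => ?_, h4, h5, h6⟩
    obtain ⟨k1, k2⟩ := h3 (j, 1) hj
    obtain ⟨k3, k4⟩ := h3 (ν (j, 1)) (by rw [F.nfst]; exact hj)
    exact ⟨k3, k1, k4, k2⟩
  · rw [LTwoTr.card_DX F, Fintype.card_fin]
  · intro s hs
    exact (LTwoTr.mem_ker_act h F).1 hs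

end main

end Cfsg.Agent.Omega.IId.SymWrD

end

-- merged: Cfsg.Agent.Mrg.Omega.IId.SymWrD.Main
section

/-!
# II.d, `SwBig` and `SwCv`: F1 for all `k`, `m`, `D` (bb OMEGA #17498, #18061, #18777)

* `L_all` : `O₂(C_G(n)) ≤ P` acts inside `⟨t_n⟩`, for all duads `n`, from (T);
* `le_o2_of_comm` : `V ≤ W = O₂(C_G(n))` if `[V, W] ≤ ⟨n⟩`;
* `sitD_of_lb` : the situation for the labels `ε` of helper714;
* `fOne_of` : **F1**: `FOne M ε` from (T).
-/

set_option autoImplicit false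

namespace Cfsg.Agent.Omega.IId.SymWrD

open Subgroup Pointwise Cfsg Cfsg.Agent.ZN Cfsg.Agent.Omega.MinPar Cfsg.Agent.Omega.FFThm
open Cfsg.Agent.Omega.FrameFF (cv)
open Cfsg.Agent.Omega.Half.SymA (Pt E Mv pm Amb0)
open Cfsg.Agent.MinSimple.VModule (mem_zc zc_le zc_comm zc_sq zc_le_zl le_normalizer_o2 o2_isPGroup o2_le le_o2
  normalizer_le_normalizer_zc le_normalizer_zl)
open Cfsg.Agent.Omega.IId.SwCv (Lb du FOne)
open scoped commutatorElement

universe u

variable {G : Type u} [Group G] [Finite G] {P V : Subgroup G} {k m : ℕ} {S : Sylow 2 G}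
  {M : SymK (S : Subgroup G) P V ⊥ k m}

/-- (T) for all situations of this degree -/
def TTAll {S : Sylow 2 G} {M : SymK (S : Subgroup G) P V ⊥ k m} (h : Sit S P V M) : Prop :=
  ∀ (μ ν : Equiv.Perm (Pt k m)) (F : Fours M μ ν) (x : Pt k m), x.2 ≠ 0 → TT h F x

omit [Finite G] in
theorem swap_eq_of_pr {a b p q : Pt k m} (hab : a.1 = b.1) (hne : a ≠ b) (hpq : p.1 = q.1) (hne' : p ≠ q)
    (h : pr M a b = pr M p q) : Equiv.swap a b = Equiv.swap p q := by
  have h1 : a = p ∨ a = q := by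
    by_contra h0
    push Not at h0
    have h2 := E_pr_left M hab hne
    rw [h, E_pr_of_ne M hpq h0.1 h0.2] at h2
    exact zero_ne_one h2
  have h2 : b = p ∨ b = q := by
    by_contra h0
    push Not at h0
    have h3 := E_pr_right M hab hne
    rw [h, E_pr_of_ne M hpq h0.1 h0.2] at h3
    exact zero_ne_one h3
  rcases h1 with rfl | rfl
  · rcases h2 with rfl | rfl
    · exact absurd rfl hne
    · rfl
  · rcases h2 with rfl | rfl
    · rw [Equiv.swap_comm]
    · exact absurd rfl hne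

/-- **F1, the action of `O₂(C_G(n))` on the points**, for all duads. -/
theorem L_all {D : Subgroup G} (hD : SitD S P V D M) (hTT : TTAll hD.toSit) {p q : Pt k m} (hpq : p.1 = q.1)
    (hne : p ≠ q) : ∀ g ∈ o2 (centralizer ({pr M p q} : Set G)), g ∈ P ∧ (pp M g = 1 ∨ pp M g = Equiv.swap p q) := by
  have h : Sit S P V M := hD.toSit
  obtain ⟨μ, ν, F⟩ := exists_fours h
  obtain ⟨c, -, hc⟩ := Half.SymA.exists_third h.hm1 0 0
  set x : Pt k m := (p.1, c) with hx
  have hL : o2 (centralizer ({pr M x (μ x)} : Set G)) ≤ P := by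
    rcases Nat.lt_or_ge 2 m with hm | hm
    · exact L_of h F hm (x := x) hc (hTT μ ν F x hc) (HH_all hD F _)
    · have hm2 : m = 2 := le_antisymm hm h.hm
      subst hm2
      exact LTwo_of hD F (fun y hy => hTT μ ν F y hy) (x := x) hc
  have hT := (hTT μ ν F x hc).2
  obtain ⟨g, hg, h1⟩ := exists_conj_pr h (F.mfst x).symm (F.mne x hc).symm hpq hne
  intro y hy
  have hy0 := hy
  rw [← h1] at hy
  have h2 := conj_o2C g⁻¹ _ hy
  have h3 : g⁻¹ * (g * pr M x (μ x) * g⁻¹) * g⁻¹⁻¹ = pr M x (μ x) := by group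
  rw [h3] at h2
  have h4 : g⁻¹ * y * g⁻¹⁻¹ ∈ P := hL h2
  have h5 : g * (g⁻¹ * y * g⁻¹⁻¹) * g⁻¹ = y := by group
  have hyP : y ∈ P := by
    have h6 := P.mul_mem (P.mul_mem hg h4) (P.inv_mem hg)
    rwa [h5] at h6
  refine ⟨hyP, ?_⟩
  have h6 : pp M y = pp M g * pp M (g⁻¹ * y * g⁻¹⁻¹) * (pp M g)⁻¹ := by
    rw [← h.conj hg h4, h5]
  rcases hT _ h2 h4 with h7 | h7
  · left
    rw [h6, h7, mul_one, mul_inv_cancel]
  · right
    have h8 : pr M (pp M g x) (pp M g (μ x)) = pr M p q := by rw [← h.conj_pr hg (F.mfst x).symm, h1]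
    rw [h6, h7, ← Equiv.swap_apply_apply]
    exact swap_eq_of_pr (h.fst hg (F.mfst x).symm) (fun h0 => F.mne x hc ((pp M g).injective h0).symm) hpq hne h8

/-- the commutator of an element inducing a transposition -/
theorem comm_of_swap (h : Sit S P V M) {p q : Pt k m} (hpq : p.1 = q.1) (hne : p ≠ q) {g : G} (hg : g ∈ P)
    (hp : pp M g = 1 ∨ pp M g = Equiv.swap p q) {v : G} (hv : v ∈ V) :
    (g * v = v * g ∨ ⁅g, v⁆ = pr M p q) ∧ (E M v p = E M v q → g * v = v * g) := by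
  classical
  rcases hp with hp | hp
  · have h1 : g * v = v * g := (h.comm_iff hg hv).2 fun r => by rw [hp]; rfl
    exact ⟨Or.inl h1, fun _ => h1⟩
  · have key : E M v p = E M v q → g * v = v * g := by
      intro h1
      refine (h.comm_iff hg hv).2 fun r => ?_
      rw [hp]
      rcases eq_or_ne r p with rfl | hr
      · rw [Equiv.swap_apply_left, h1]
      · rcases eq_or_ne r q with rfl | hr'
        · rw [Equiv.swap_apply_right, h1]
        · rw [Equiv.swap_apply_of_ne_of_ne hr hr']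
    refine ⟨?_, key⟩
    by_cases h1 : E M v p = E M v q
    · exact Or.inl (key h1)
    · right
      have hgv := h.amb.conj_mem hg hv
      have hv' : v⁻¹ ∈ V := inv_mem hv
      rw [commutatorElement_def]
      refine Half.SymA.inj M (mul_mem hgv hv') (pr_mem M _ _) fun r => ?_
      rw [Half.SymA.E_mul M hgv hv', Half.SymA.E_inv M hv, E_conj' hg hv, hp, Equiv.swap_inv, E_pr M hpq]
      have h2 : E M v p + E M v q = 1 := by
        rcases Half.SymA.zmod2 (E M v p) with h3 | h3 <;> rcases Half.SymA.zmod2 (E M v q) with h4 | h4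
        · exact absurd (h3.trans h4.symm) h1
        · rw [h3, h4]; rfl
        · rw [h3, h4]; rfl
        · exact absurd (h3.trans h4.symm) h1
      rcases eq_or_ne r p with rfl | hr
      · rw [Equiv.swap_apply_left, if_pos rfl, if_neg hne, add_zero, add_comm]
        exact h2
      · rcases eq_or_ne r q with rfl | hr'
        · rw [Equiv.swap_apply_right, if_neg hr, if_pos rfl, zero_add]
          exact h2
        · rw [Equiv.swap_apply_of_ne_of_ne hr hr', if_neg hr, if_neg hr', add_zero]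
          exact CharTwo.add_self_eq_zero _

/-- `U ≤ O₂(C_G(n))` if `U ≤ C_G(n)` and `[U, O₂(C_G(n))] ≤ ⟨n⟩`. -/
theorem le_o2_of_comm (hG : IsCharacteristicTwoType G) {n : G} (hn : n ^ 2 = 1) (hn1 : n ≠ 1) {U : Subgroup G}
    (hU : ∀ u ∈ U, u * n = n * u)
    (hc : ∀ x ∈ o2 (centralizer ({n} : Set G)), ∀ u ∈ U, ⁅x, u⁆ = 1 ∨ ⁅x, u⁆ = n) :
    U ≤ o2 (centralizer ({n} : Set G)) := by
  set C := centralizer ({n} : Set G) with hC
  set W := o2 C with hW
  have hmem : ∀ g, g ∈ C ↔ g * n = n * g := fun g => by rw [hC, mem_centralizer_singleton_iff]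
  have hWC : W ≤ C := o2_le C
  have hCW : C ≤ normalizer (W : Set G) := le_normalizer_o2 C
  have hnn : n * n = 1 := by rw [← pow_two]; exact hn
  -- `C_C(W) ≤ W`
  have hcW : C ⊓ centralizer (W : Set G) ≤ W := by
    have h1 := MinSimple.Basic.char2_normalizer hG (U := zpowers n)
      (IsPGroup.iff_card.2 ⟨1, by rw [Nat.card_zpowers]; exact (orderOf_eq_prime hn hn1).trans (pow_one 2).symm⟩)
      (fun h0 => hn1 (zpowers_eq_bot.1 h0))
    rwa [MinSimple.Basic.normalizer_zpowers_eq hn] at h1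
  let K : Subgroup G :=
    { carrier := {g | g ∈ C ∧ ∀ x ∈ W, ⁅x, g⁆ = 1 ∨ ⁅x, g⁆ = n}
      one_mem' := ⟨one_mem _, fun x _ => Or.inl (commutatorElement_one_right x)⟩
      mul_mem' := by
        rintro a b ⟨ha, ha'⟩ ⟨hb, hb'⟩
        refine ⟨mul_mem ha hb, fun x hx => ?_⟩
        have e : ⁅x, a * b⁆ = ⁅x, a⁆ * (a * ⁅x, b⁆ * a⁻¹) := by
          simp only [commutatorElement_def]
          group
        have h2 : a * ⁅x, b⁆ * a⁻¹ = ⁅x, b⁆ := by
          rcases hb' x hx with h3 | h3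
          · rw [h3, mul_one, mul_inv_cancel]
          · rw [h3, (hmem a).1 ha, mul_inv_cancel_right]
        rw [e, h2]
        rcases ha' x hx with h3 | h3 <;> rcases hb' x hx with h4 | h4 <;> rw [h3, h4]
        · left; rw [mul_one]
        · right; rw [one_mul]
        · right; rw [mul_one]
        · left; exact hnn
      inv_mem' := by
        rintro a ⟨ha, ha'⟩
        refine ⟨inv_mem ha, fun x hx => ?_⟩
        have e : ⁅x, a⁻¹⁆ = a⁻¹ * ⁅x, a⁆⁻¹ * a := by
          simp only [commutatorElement_def]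
          group
        rcases ha' x hx with h3 | h3
        · left; rw [e, h3, inv_one, mul_one, inv_mul_cancel]
        · right
          have h4 : n⁻¹ = n := inv_eq_of_mul_eq_one_left hnn
          rw [e, h3, h4, mul_assoc, ← (hmem a).1 ha, inv_mul_cancel_left] }
  have hK : ∀ g, g ∈ K ↔ g ∈ C ∧ ∀ x ∈ W, ⁅x, g⁆ = 1 ∨ ⁅x, g⁆ = n := fun g => Iff.rfl
  have hUK : U ≤ K := fun u hu => (hK u).2 ⟨(hmem u).2 (hU u hu), fun x hx => hc x hx u hu⟩
  refine hUK.trans (le_o2 (fun g hg => ((hK g).1 hg).1) ?_ ?_)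
  · -- a 2-group
    intro g
    obtain ⟨hgC, hg'⟩ := (hK _).1 g.2
    have h1 : (g : G) * g ∈ W := by
      refine hcW ⟨mul_mem hgC hgC, mem_centralizer_iff.2 fun x hx => ?_⟩
      have h2 : ⁅x, (g : G) * g⁆ = 1 := by
        have e : ⁅x, (g : G) * g⁆ = ⁅x, (g : G)⁆ * (g * ⁅x, (g : G)⁆ * (g : G)⁻¹) := by
          simp only [commutatorElement_def]
          group
        rw [e]
        rcases hg' x hx with h3 | h3
        · rw [h3]; group
        · rw [h3, (hmem _).1 hgC, mul_inv_cancel_right]; exact hnn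
      exact commutatorElement_eq_one_iff_mul_comm.1 h2
    obtain ⟨j, hj⟩ := (o2_isPGroup C) ⟨(g : G) * g, h1⟩
    refine ⟨j + 1, Subtype.ext ?_⟩
    have h2 := congrArg Subtype.val hj
    rw [SubmonoidClass.coe_pow, OneMemClass.coe_one] at h2 ⊢
    change ((g : G) * g) ^ 2 ^ j = 1 at h2
    rw [pow_succ, mul_comm, pow_mul, pow_two]
    exact h2
  · -- normal in `C`
    intro g hg
    refine MinSimple.VModule.mem_normalizer_of_map_le ?_
    rintro _ ⟨a, ha, rfl⟩
    obtain ⟨haC, ha'⟩ := (hK a).1 ha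
    change g * a * g⁻¹ ∈ K
    refine (hK _).2 ⟨C.mul_mem (C.mul_mem hg haC) (C.inv_mem hg), fun x hx => ?_⟩
    have h1 : g⁻¹ * x * g ∈ W := by
      have := (mem_normalizer_iff.1 (hCW (inv_mem hg)) x).1 hx
      rwa [inv_inv] at this
    have e : ⁅x, g * a * g⁻¹⁆ = g * ⁅g⁻¹ * x * g, a⁆ * g⁻¹ := by
      simp only [commutatorElement_def]
      group
    rw [e]
    rcases ha' _ h1 with h2 | h2
    · left; rw [h2, mul_one, mul_inv_cancel]
    · right; rw [h2, (hmem g).1 hg, mul_inv_cancel_right]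

/-! ### The labels -/

section lab

variable {M : SymK (S : Subgroup G) P (zl (S : Subgroup G) P) (cv (S : Subgroup G) P) k m}
  {ε : Fin k → (Fin (2 ^ m + 1) → ZMod 2) → G}

theorem sitD_of_lb (hG : IsCharacteristicTwoType G) (hP : IsParS (S : Subgroup G) P) (hL : Lb M ε) (hk : 0 < k)
    (hm : 2 ≤ m) : SitD S P hL.A (cv (S : Subgroup G) P) hL.toBot := by
  have hloc := hP.isLoc
  have hamb := Half.amb_of_loc hG S hloc
  have hDV : cv (S : Subgroup G) P ≤ zl (S : Subgroup G) P := inf_le_left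
  have hcom : ∀ g ∈ P, (∀ a ∈ hL.A, a * g = g * a) → ∀ v ∈ zl (S : Subgroup G) P, v * g = g * v := by
    intro g hg h0 v hv
    obtain ⟨d, hd, e⟩ := hL.dec hv
    have h1 := h0 _ (hL.pl_mem_A (M.e v))
    have h2 := hL.cen g hg d hd
    rw [e, mul_assoc, h1, ← mul_assoc, ← h2, mul_assoc]
  refine ⟨⟨⟨hloc.le, hL.A_le.trans hamb.VT, hL.nor_A,
    fun a ha b hb => hamb.comm a (hL.A_le ha) b (hL.A_le hb), fun a ha => hamb.sq a (hL.A_le ha)⟩, hm, hk,
    hL.A_le.trans (hloc.zl_le S hG), ?_, ?_, ?_⟩, hDV.trans (hloc.zl_le S hG), hL.cen, hL.inf,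
    hamb.zc.trans (le_of_eq (by rw [sup_comm, hL.sup]))⟩
  · rw [← hP.inf_centralizer S hG]
    refine le_antisymm (inf_le_inf_left _ (centralizer_le hL.A_le)) fun s hs => ⟨hs.1, mem_centralizer_iff.2 ?_⟩
    exact hcom s (hloc.le hs.1) (mem_centralizer_iff.1 hs.2)
  · have h1 := MinSimple.Basic.char2_normalizer hG (o2_isPGroup P) hP.o2_ne
    have h2 : o2 (normalizer (o2 P : Set G)) ≤ o2 P := o2_le_o2 S hP.le (le_normalizer_o2 P)
    have h3 : centralizer (o2 P : Set G) ≤ normalizer (o2 P : Set G) := centralizer_le_normalizer _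
    exact (le_inf h3 (centralizer_le h2)).trans (h1.trans h2)
  · refine le_trans ?_ (LFour.le_centralizer_zc_o2 hG S hP)
    rintro g ⟨hgP, hg⟩
    exact ⟨hgP, mem_centralizer_iff.2 (hcom g hgP (mem_centralizer_iff.1 hg))⟩

theorem du_eq_pr (hL : Lb M ε) (i : Fin k) (a b : Fin (2 ^ m + 1)) :
    du ε i a b = pr hL.toBot ((i, a) : Pt k m) (i, b) := by
  classical
  refine hL.inj (hL.du_mem_A i a b) (pr_mem hL.toBot _ _) ?_
  rw [hL.e_du]
  funext j y
  have h1 : M.e (pr hL.toBot ((i, a) : Pt k m) (i, b)) j y = E hL.toBot (pr hL.toBot ((i, a) : Pt k m) (i, b)) (j, y) := rfl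
  rw [h1, E_pr hL.toBot (p := ((i, a) : Pt k m)) (q := (i, b)) rfl]
  by_cases hj : j = i
  · subst hj
    rw [Pi.single_eq_same, Pi.add_apply, Pi.single_apply, Pi.single_apply]
    simp only [Prod.mk.injEq, true_and]
  · rw [Pi.single_eq_of_ne hj]
    simp only [Prod.mk.injEq, hj, false_and, if_false, add_zero]
    rfl

/-- **F1 for all `k`, `m`, `D`**, from (T). -/
theorem fOne_of (hG : IsCharacteristicTwoType G) (hP : IsParS (S : Subgroup G) P) (hL : Lb M ε) (hk : 0 < k)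
    (hm : 2 ≤ m) (hTT : TTAll (sitD_of_lb hG hP hL hk hm).toSit) : FOne M ε := by
  have hD := sitD_of_lb hG hP hL hk hm
  have key : ∀ (i : Fin k) (a b : Fin (2 ^ m + 1)), a ≠ b → ∀ x ∈ o2 (centralizer ({du ε i a b} : Set G)),
      ∀ v ∈ zl (S : Subgroup G) P, (⁅x, v⁆ = 1 ∨ ⁅x, v⁆ = du ε i a b) ∧ (M.e v i a = M.e v i b → x * v = v * x) := by
    intro i a b hab x hx v hv
    have hne : ((i, a) : Pt k m) ≠ (i, b) := fun h0 => hab (congrArg Prod.snd h0)
    have hdu := du_eq_pr hL i a b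
    rw [hdu] at hx ⊢
    have h11 : ((i, a) : Pt k m).1 = ((i, b) : Pt k m).1 := rfl
    obtain ⟨hxP, hx2⟩ := L_all (M := hL.toBot) hD hTT (p := (i, a)) (q := (i, b)) h11 hne x hx
    have h1 := comm_of_swap (M := hL.toBot) hD.toSit (p := (i, a)) (q := (i, b)) h11 hne hxP hx2
      (hL.pl_mem_A (M.e v))
    have h2 : ∀ j y, E hL.toBot (hL.pl (M.e v)) (j, y) = M.e v j y := by
      intro j y
      obtain ⟨d, hd, e⟩ := hL.dec hv
      have h3 : M.e (hL.pl (M.e v)) = M.e v := by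
        nth_rw 2 [e]
        rw [M.mul d (hL.DV hd) _ (hL.pl_mem _), (M.ker d (hL.DV hd)).2 hd, zero_add]
      change M.e (hL.pl (M.e v)) j y = _
      rw [h3]
    rw [hL.comm_eq hxP hv]
    constructor
    · rcases h1.1 with h3 | h3
      · left; exact commutatorElement_eq_one_iff_mul_comm.2 h3
      · right; exact h3
    · intro h3
      have h4 := h1.2 (by rw [h2, h2]; exact h3)
      have h5 : ⁅x, v⁆ = 1 := by
        rw [hL.comm_eq hxP hv]
        exact commutatorElement_eq_one_iff_mul_comm.2 h4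
      exact commutatorElement_eq_one_iff_mul_comm.1 h5
  refine ⟨fun i a b hab => ?_, fun i a b hab x hx v hv => (key i a b hab x hx v hv).1,
    fun i a b hab x hx v hv => (key i a b hab x hx v hv).2⟩
  refine le_o2_of_comm hG (by rw [pow_two]; exact hL.du_mul_self i a b) (hL.du_ne_one hab) (fun u hu => ?_)
    fun x hx u hu => (key i a b hab x hx u hu).1
  exact hL.comm u hu _ (hL.du_mem i a b)

end lab

end Cfsg.Agent.Omega.IId.SymWrD

end

-- merged: Cfsg.Agent.Mrg.Omega.IId.SymWrD.RankAbs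
section

/-!
# The rank argument (THEOREM L, bb OMEGA #17498, #17636): abstract part

* `two_pow_le` : the permutations preserving all orbits of a fixed-point-free involution;
* `card_le_of_rank` : `|U| ≤ |C|` for `U/B` elementary abelian of `S/B ≤ Sym(Ω)`, `C/B` the group of `two_pow_le`;
* `le_of_normalises` : `X` a 2-group normalised by `C`, `X ∩ C ≤ B` ⇒ `X ≤ B`;
* `fix_of_swaps` : a 2-group of permutations normalised by the transpositions of `≥ 5` points fixes these points.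
-/

set_option autoImplicit false

namespace Cfsg.Agent.Omega.IId.SymWrD.RankAbs

open Subgroup

universe u v

section count

variable {Ω : Type v}

/-- the involution inducing `ν` on the orbits `{x, ν x}` with `φ x = true` -/
def flip (ν : Equiv.Perm Ω) (hν : ∀ x, ν (ν x) = x) (φ : Ω → Bool) (hφ : ∀ x, φ (ν x) = φ x) :
    Equiv.Perm Ω where
  toFun x := if φ x then ν x else x
  invFun x := if φ x then ν x else x
  left_inv x := by
    cases h : φ x <;> simp [h, hφ, hν]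
  right_inv x := by
    cases h : φ x <;> simp [h, hφ, hν]

theorem flip_apply (ν : Equiv.Perm Ω) (hν : ∀ x, ν (ν x) = x) (φ : Ω → Bool) (hφ : ∀ x, φ (ν x) = φ x) (x : Ω) :
    flip ν hν φ hφ x = if φ x then ν x else x := rfl

theorem flip_or (ν : Equiv.Perm Ω) (hν : ∀ x, ν (ν x) = x) (φ : Ω → Bool) (hφ : ∀ x, φ (ν x) = φ x) (x : Ω) :
    flip ν hν φ hφ x = x ∨ flip ν hν φ hφ x = ν x := by
  rw [flip_apply]
  cases φ x <;> simp

theorem flip_inj {ν : Equiv.Perm Ω} {hν : ∀ x, ν (ν x) = x} (hne : ∀ x, ν x ≠ x) {φ ψ : Ω → Bool}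
    {hφ : ∀ x, φ (ν x) = φ x} {hψ : ∀ x, ψ (ν x) = ψ x} (h : flip ν hν φ hφ = flip ν hν ψ hψ) (x : Ω) :
    φ x = ψ x := by
  have h1 := congrArg (fun π : Equiv.Perm Ω => π x) h
  simp only [flip_apply] at h1
  cases hx : φ x <;> cases hy : ψ x <;> rw [hx, hy] at h1
  · simp only [Bool.false_eq_true, if_false, if_true] at h1
    exact absurd h1.symm (hne x)
  · simp only [Bool.false_eq_true, if_false, if_true] at h1
    exact absurd h1 (hne x)

theorem two_pow_le [Finite Ω] (ν : Equiv.Perm Ω) (hν : ∀ x, ν (ν x) = x) (hne : ∀ x, ν x ≠ x)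
    (F : Subgroup (Equiv.Perm Ω)) (hF : ∀ π : Equiv.Perm Ω, (∀ x, π x = x ∨ π x = ν x) → π ∈ F) :
    2 ^ Nat.card Ω ≤ Nat.card F ^ 2 := by
  classical
  obtain ⟨n, ⟨e⟩⟩ := Finite.exists_equiv_fin Ω
  -- the representative of an orbit
  obtain ⟨r, hr⟩ : ∃ r : Ω → Ω, ∀ x, r x = if e x < e (ν x) then x else ν x := ⟨_, fun _ => rfl⟩
  have hr1 : ∀ x, r (ν x) = r x := by
    intro x
    rw [hr, hr, hν]
    have h1 : e x ≠ e (ν x) := fun h => hne x (e.injective h).symm
    rcases lt_or_gt_of_ne h1 with h2 | h2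
    · rw [if_pos h2, if_neg (not_lt.2 h2.le)]
    · rw [if_neg (not_lt.2 h2.le), if_pos h2]
  have hr2 : ∀ x, r x = x ∨ ν (r x) = x := by
    intro x
    rw [hr]
    split_ifs
    · exact Or.inl rfl
    · exact Or.inr (hν x)
  have h1 : ∀ φ : Ω → Bool, ∀ x, φ (r (ν x)) = φ (r x) := fun φ x => by rw [hr1]
  have h2 : ∀ φ : Ω → Bool, ∀ x, φ (ν (r (ν x))) = φ (ν (r x)) := fun φ x => by rw [hr1]
  let f : (Ω → Bool) → F × F := fun φ =>
    (⟨flip ν hν (fun x => φ (r x)) (h1 φ), hF _ (flip_or _ _ _ _)⟩,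
      ⟨flip ν hν (fun x => φ (ν (r x))) (h2 φ), hF _ (flip_or _ _ _ _)⟩)
  have hf : Function.Injective f := by
    intro φ ψ h
    have h3 := congrArg (fun y : F × F => ((y.1 : F) : Equiv.Perm Ω)) h
    have h4 := congrArg (fun y : F × F => ((y.2 : F) : Equiv.Perm Ω)) h
    have h5 := flip_inj (hν := hν) (hφ := h1 φ) (hψ := h1 ψ) hne h3
    have h6 := flip_inj (hν := hν) (hφ := h2 φ) (hψ := h2 ψ) hne h4
    funext x
    rcases hr2 x with h7 | h7
    · have := h5 x
      rwa [h7] at this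
    · have := h6 x
      rwa [h7] at this
  have h3 := Nat.card_le_card_of_injective f hf
  rw [Nat.card_fun, Nat.card_prod, ← pow_two] at h3
  simpa using h3

end count

section bound

variable {G : Type u} [Group G] {Ω : Type v}

theorem card_eq {S B K : Subgroup G} (φ : S →* Equiv.Perm Ω) (hB : ∀ s : S, φ s = 1 ↔ (s : G) ∈ B)
    (hBK : B ≤ K) (hKS : K ≤ S) :
    Nat.card K = Nat.card B * Nat.card (φ.comp (inclusion hKS)).range := by
  have h1 : Nat.card (φ.comp (inclusion hKS)).ker = Nat.card B := by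
    refine Nat.card_congr
      { toFun := fun x => ⟨((x : K) : G), ?_⟩
        invFun := fun b => ⟨⟨b, hBK b.2⟩, ?_⟩
        left_inv := fun _ => rfl
        right_inv := fun _ => rfl }
    · exact (hB _).1 x.2
    · exact (hB _).2 b.2
  rw [← h1, ← Subgroup.index_ker, Subgroup.card_mul_index]

theorem card_le_of_rank [Finite G] [Finite Ω] {S B C U : Subgroup G} (φ : S →* Equiv.Perm Ω) (hB : ∀ s : S, φ s = 1 ↔ (s : G) ∈ B)
    (ν : Equiv.Perm Ω) (hν : ∀ x, ν (ν x) = x) (hne : ∀ x, ν x ≠ x) (hBC : B ≤ C) (hCS : C ≤ S)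
    (hC : ∀ π : Equiv.Perm Ω, (∀ x, π x = x ∨ π x = ν x) → ∃ c : S, (c : G) ∈ C ∧ φ c = π)
    (hBU : B ≤ U) (hUS : U ≤ S) (hU : ∀ u ∈ U, u * u ∈ B) : Nat.card U ≤ Nat.card C := by
  rw [card_eq φ hB hBU hUS, card_eq φ hB hBC hCS]
  apply Nat.mul_le_mul_left
  have h1 : 2 ^ Nat.card Ω ≤ Nat.card (φ.comp (inclusion hCS)).range ^ 2 := by
    apply two_pow_le ν hν hne
    intro π hπ
    obtain ⟨c, hc, h2⟩ := hC π hπ
    exact ⟨⟨c, hc⟩, h2⟩
  have h2 : Nat.card (φ.comp (inclusion hUS)).range ^ 2 ≤ 2 ^ Nat.card Ω := by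
    apply TwoF.PermRank.card_sq_le
    rintro ⟨_, u, rfl⟩
    apply Subtype.ext
    change φ.comp (inclusion hUS) u * φ.comp (inclusion hUS) u = 1
    rw [← map_mul]
    exact (hB _).2 (hU u u.2)
  exact (Nat.pow_le_pow_iff_left (by norm_num)).1 (h2.trans h1)

end bound

section norm

variable {G : Type u} [Group G]

theorem mem_sup_norm {A B : Subgroup G} (h : B ≤ normalizer (A : Set G)) {x : G} (hx : x ∈ A ⊔ B) :
    ∃ a ∈ A, ∃ b ∈ B, x = a * b := by
  have h1 : x ∈ ((A ⊔ B : Subgroup G) : Set G) := hx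
  rw [coe_mul_of_right_le_normalizer_left A B h] at h1
  obtain ⟨a, ha, b, hb, hab⟩ := h1
  exact ⟨a, ha, b, hb, hab.symm⟩

variable [Finite G]

theorem le_of_normalises (S : Sylow 2 G) {B C E X : Subgroup G} (hBC : B ≤ C) (hCS : C ≤ (S : Subgroup G))
    (hSB : (S : Subgroup G) ≤ normalizer (B : Set G))
    (hBE : normalizer (B : Set G) ≤ normalizer (E : Set G))
    (hE : (S : Subgroup G) ⊓ centralizer (E : Set G) = B) (hC2 : ∀ c ∈ C, c * c ∈ B)
    (hbound : ∀ U : Subgroup G, B ≤ U → U ≤ (S : Subgroup G) → (∀ u ∈ U, u * u ∈ B) → Nat.card U ≤ Nat.card C)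
    (hX : IsPGroup 2 X) (hCX : C ≤ normalizer (X : Set G)) (hXC : X ⊓ C ≤ B) : X ≤ B := by
  have : Fact (Nat.Prime 2) := ⟨Nat.prime_two⟩
  have hB2 : IsPGroup 2 B := S.isPGroup'.to_le (hBC.trans hCS)
  have hCp : IsPGroup 2 C := S.isPGroup'.to_le hCS
  have cj : ∀ {A : Subgroup G} {g x : G}, g ∈ normalizer (A : Set G) → x ∈ A → g * x * g⁻¹ ∈ A :=
    fun hg hx => (mem_normalizer_iff.1 hg _).1 hx
  have cj' : ∀ {A : Subgroup G} {g x : G}, g ∈ normalizer (A : Set G) → x ∈ A → g⁻¹ * x * g ∈ A := by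
    intro A g x hg hx
    have := cj (inv_mem hg) hx
    rwa [inv_inv] at this
  -- Step 0: the elements whose square lies in `B`
  have step0 : ∀ n ∈ X, n ∈ normalizer (B : Set G) → n ∈ normalizer (C : Set G) → n * n ∈ B → n ∈ B := by
    intro n hnX hnB hnC hn2
    by_contra hn
    have hnC' : n ∉ C := fun h1 => hn (hXC ⟨hnX, h1⟩)
    let U : Subgroup G :=
      { carrier := {u | u ∈ C ∨ n⁻¹ * u ∈ C}
        one_mem' := Or.inl (one_mem C)
        mul_mem' := by
          rintro a b (ha | ha) (hb | hb)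
          · exact Or.inl (mul_mem ha hb)
          · right
            have e : n⁻¹ * (a * b) = n⁻¹ * a * n * (n⁻¹ * b) := by group
            rw [e]
            exact mul_mem (cj' hnC ha) hb
          · right
            rw [← mul_assoc]
            exact mul_mem ha hb
          · left
            have e : a * b = n * n * (n⁻¹ * (n⁻¹ * a) * n) * (n⁻¹ * b) := by group
            rw [e]
            exact mul_mem (mul_mem (hBC hn2) (cj' hnC ha)) hb
        inv_mem' := by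
          rintro a (ha | ha)
          · exact Or.inl (inv_mem ha)
          · right
            have e : n⁻¹ * a⁻¹ = n⁻¹ * (n⁻¹ * a)⁻¹ * n * (n * n)⁻¹ := by group
            rw [e]
            exact mul_mem (cj' hnC (inv_mem ha)) (inv_mem (hBC hn2)) }
    have hCU : C ≤ U := fun c hc => Or.inl hc
    have hnU : n ∈ U := Or.inr (by rw [inv_mul_cancel]; exact one_mem C)
    have hBU : B ≤ U := hBC.trans hCU
    have hsq : ∀ u ∈ U, u * u ∈ B := by
      rintro u (hu | hu)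
      · exact hC2 u hu
      · obtain ⟨c, hc⟩ : ∃ c, c = n⁻¹ * u := ⟨_, rfl⟩
        rw [← hc] at hu
        have hu' : u = n * c := by rw [hc, mul_inv_cancel_left]
        have e : u * u = n * n * (n⁻¹ * c * n * c⁻¹) * (c * c) := by rw [hu']; group
        rw [e]
        refine mul_mem (mul_mem hn2 (hXC (mem_inf.2 ⟨?_, ?_⟩))) (hC2 c hu)
        · have e1 : n⁻¹ * c * n * c⁻¹ = n⁻¹ * (c * n * c⁻¹) := by group
          rw [e1]
          exact mul_mem (inv_mem hnX) (cj (hCX hu) hnX)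
        · exact mul_mem (cj' hnC hu) (inv_mem hu)
    have hUp : IsPGroup 2 U := by
      intro u
      obtain ⟨j, hj⟩ := hB2 ⟨u * u, hsq u u.2⟩
      refine ⟨j + 1, Subtype.ext ?_⟩
      have h1 : ((u : G) * u) ^ 2 ^ j = 1 := congrArg Subtype.val hj
      change (u : G) ^ 2 ^ (j + 1) = 1
      rw [pow_succ', pow_mul, pow_two]
      exact h1
    have hUN : U ≤ normalizer (B : Set G) := by
      rintro u (hu | hu)
      · exact hSB (hCS hu)
      · have e : u = n * (n⁻¹ * u) := by group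
        rw [e]
        exact mul_mem hnB (hSB (hCS hu))
    obtain ⟨g, hg, hgU⟩ := S5.TT.exists_conj_le_sylow S (normalizer (E : Set G)) U (hSB.trans hBE) hUp
      (hUN.trans hBE)
    have hBg : ∀ b ∈ B, g * b * g⁻¹ ∈ B := by
      intro b hb
      rw [← hE]
      refine ⟨hgU b (hBU hb), mem_centralizer_iff.2 fun x hx => ?_⟩
      have h1 : g⁻¹ * x * g ∈ E := cj' hg hx
      have h2 : b ∈ centralizer (E : Set G) := (hE.ge hb).2
      have h3 := mem_centralizer_iff.1 h2 _ h1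
      calc x * (g * b * g⁻¹) = g * ((g⁻¹ * x * g) * b) * g⁻¹ := by group
        _ = g * (b * (g⁻¹ * x * g)) * g⁻¹ := by rw [h3]
        _ = g * b * g⁻¹ * x := by group
    have hgB : g ∈ normalizer (B : Set G) := by
      refine MinSimple.VModule.mem_normalizer_of_map_le ?_
      rintro _ ⟨b, hb, rfl⟩
      exact hBg b hb
    have h1 := hbound (U.map (MulAut.conj g).toMonoidHom) ?_ ?_ ?_
    · have h2 : Nat.card (U.map (MulAut.conj g).toMonoidHom) = Nat.card U :=
        (Nat.card_congr (U.equivMapOfInjective _ (MulAut.conj g).injective).toEquiv).symm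
      rw [h2] at h1
      have h3 := Subgroup.eq_of_le_of_card_ge hCU h1
      rw [← h3] at hnU
      exact hnC' hnU
    · intro b hb
      exact ⟨g⁻¹ * b * g, hBU (cj' hgB hb), by
        change g * (g⁻¹ * b * g) * g⁻¹ = b
        group⟩
    · rintro _ ⟨u, hu, rfl⟩
      exact hgU u hu
    · rintro _ ⟨u, hu, rfl⟩
      change g * u * g⁻¹ * (g * u * g⁻¹) ∈ B
      have e : g * u * g⁻¹ * (g * u * g⁻¹) = g * (u * u) * g⁻¹ := by group
      rw [e]
      exact hBg _ (hsq u hu)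
  -- Step 1
  have step1 : ∀ n ∈ X, n ∈ normalizer (B : Set G) → n ∈ normalizer (C : Set G) → n ∈ B := by
    intro n hnX hnB hnC
    by_contra hn
    have hex : ∃ j, n ^ 2 ^ j ∈ B := by
      obtain ⟨j, hj⟩ := hX ⟨n, hnX⟩
      refine ⟨j, ?_⟩
      have h1 : n ^ 2 ^ j = 1 := congrArg Subtype.val hj
      rw [h1]
      exact one_mem B
    classical
    have h1 := Nat.find_spec hex
    have h2 : Nat.find hex ≠ 0 := by
      intro h0
      rw [h0, pow_zero, pow_one] at h1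
      exact hn h1
    obtain ⟨j, hj⟩ := Nat.exists_eq_succ_of_ne_zero h2
    have h3 : n ^ 2 ^ j ∉ B := Nat.find_min hex (by omega)
    rw [hj, Nat.succ_eq_add_one, pow_succ, pow_mul, pow_two] at h1
    exact h3 (step0 _ (pow_mem hnX _) (pow_mem hnB _) (pow_mem hnC _) h1)
  -- Step 2
  have hCN : C ≤ normalizer ((X ⊓ normalizer (B : Set G) : Subgroup G) : Set G) := by
    intro c hc
    refine MinSimple.VModule.mem_normalizer_of_map_le ?_
    rintro _ ⟨x, hx, rfl⟩
    have h1 := mem_inf.1 hx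
    exact mem_inf.2 ⟨cj (hCX hc) h1.1, mul_mem (mul_mem (hSB (hCS hc)) h1.2) (inv_mem (hSB (hCS hc)))⟩
  have step2 : X ⊓ normalizer (B : Set G) ≤ B := by
    have h1 : IsPGroup 2 (C ⊔ (X ⊓ normalizer (B : Set G)) : Subgroup G) :=
      hCp.to_sup_of_normal_right' (hX.to_le inf_le_left) hCN
    have h2 : C ⊔ (X ⊓ normalizer (B : Set G)) ≤ C := by
      by_contra h3
      obtain ⟨r, hr, hrC, hrN⟩ := S5.TT.exists_mem_normalizer h1 le_sup_left h3
      rw [sup_comm] at hr
      obtain ⟨y, hy, c, hc, rfl⟩ := mem_sup_norm hCN hr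
      have h4 : y ∈ normalizer (C : Set G) := by
        have := mul_mem hrN (inv_mem (le_normalizer hc))
        rwa [mul_inv_cancel_right] at this
      exact hrC (mul_mem (hBC (step1 y hy.1 hy.2 h4)) hc)
    exact fun x hx => hXC ⟨hx.1, h2 (mem_sup_right hx)⟩
  -- Step 3
  have h1 : IsPGroup 2 (B ⊔ X : Subgroup G) := hB2.to_sup_of_normal_right' hX (hBC.trans hCX)
  have h2 : B ⊔ X ≤ B := by
    by_contra h3
    obtain ⟨r, hr, hrB, hrN⟩ := S5.TT.exists_mem_normalizer h1 le_sup_left h3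
    rw [sup_comm] at hr
    obtain ⟨x, hx, b, hb, rfl⟩ := mem_sup_norm (hBC.trans hCX) hr
    have h4 : x ∈ normalizer (B : Set G) := by
      have := mul_mem hrN (inv_mem (le_normalizer hb))
      rwa [mul_inv_cancel_right] at this
    exact hrB (mul_mem (step2 ⟨hx, h4⟩) hb)
  exact le_sup_right.trans h2

end norm

section swaps

variable {Ω : Type v} [DecidableEq Ω]

theorem not_cycle {N : Subgroup (Equiv.Perm Ω)} (hN : IsPGroup 2 N) {a b c : Ω} (hab : a ≠ b) (hbc : b ≠ c)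
    (hac : a ≠ c) : Equiv.swap a b * Equiv.swap b c ∉ N := by
  intro h
  set σ := Equiv.swap a b * Equiv.swap b c with hσ
  have ha : σ a = b := by
    rw [hσ, Equiv.Perm.mul_apply, Equiv.swap_apply_of_ne_of_ne hab hac, Equiv.swap_apply_left]
  have hb : σ b = c := by
    rw [hσ, Equiv.Perm.mul_apply, Equiv.swap_apply_left, Equiv.swap_apply_of_ne_of_ne hac.symm hbc.symm]
  have hc : σ c = a := by
    rw [hσ, Equiv.Perm.mul_apply, Equiv.swap_apply_right, Equiv.swap_apply_right]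
  have hd : ∀ x, x ≠ a → x ≠ b → x ≠ c → σ x = x := by
    intro x h1 h2 h3
    rw [hσ, Equiv.Perm.mul_apply, Equiv.swap_apply_of_ne_of_ne h2 h3, Equiv.swap_apply_of_ne_of_ne h1 h2]
  have h3 : σ ^ 3 = 1 := by
    ext1 x
    have e : (σ ^ 3) x = σ (σ (σ x)) := rfl
    rw [e]
    change _ = x
    by_cases h1 : x = a
    · rw [h1, ha, hb, hc]
    · by_cases h2 : x = b
      · rw [h2, hb, hc, ha]
      · by_cases h4 : x = c
        · rw [h4, hc, ha, hb]
        · rw [hd x h1 h2 h4, hd x h1 h2 h4, hd x h1 h2 h4]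
  obtain ⟨j, hj⟩ := hN ⟨σ, h⟩
  have hj' : σ ^ 2 ^ j = 1 := congrArg Subtype.val hj
  have h4 : orderOf σ ∣ 3 := orderOf_dvd_of_pow_eq_one h3
  have h5 : orderOf σ ∣ 2 ^ j := orderOf_dvd_of_pow_eq_one hj'
  have h6 : Nat.Coprime 3 (2 ^ j) := Nat.Coprime.pow_right j (by norm_num)
  have h7 : orderOf σ = 1 := Nat.eq_one_of_dvd_coprimes h6 h4 h5
  rw [orderOf_eq_one_iff] at h7
  rw [h7] at ha
  exact hab ha

theorem comm_mem {N : Subgroup (Equiv.Perm Ω)} {p q : Ω}
    (hn : ∀ π ∈ N, Equiv.swap p q * π * Equiv.swap p q ∈ N) {π : Equiv.Perm Ω} (hπ : π ∈ N) :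
    Equiv.swap (π p) (π q) * Equiv.swap p q ∈ N := by
  have h1 := mul_mem hπ (hn _ (inv_mem hπ))
  have e : π * (Equiv.swap p q * π⁻¹ * Equiv.swap p q) = Equiv.swap (π p) (π q) * Equiv.swap p q := by
    have e1 : π * Equiv.swap p q * π⁻¹ = Equiv.swap (π p) (π q) := by
      rw [Equiv.mul_swap_eq_swap_mul, mul_inv_cancel_right]
    rw [← mul_assoc, ← mul_assoc, e1]
  rwa [e] at h1

/-- a 2-group of permutations normalised by the transpositions of `Γ`: an element fixing a point of `Γ` fixes `Γ` -/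
theorem fix_of_fix {N : Subgroup (Equiv.Perm Ω)} (hN : IsPGroup 2 N) (Γ : Finset Ω)
    (hn : ∀ p ∈ Γ, ∀ q ∈ Γ, ∀ π ∈ N, Equiv.swap p q * π * Equiv.swap p q ∈ N) :
    ∀ π ∈ N, ∀ p ∈ Γ, ∀ r ∈ Γ, π r = r → π p = p := by
  intro π hπ p hp r hr h1
  by_contra h2
  have hpr : p ≠ r := by
    rintro rfl
    exact h2 h1
  have h3 := comm_mem (hn p hp r hr) hπ
  rw [h1, Equiv.swap_comm p r] at h3
  refine not_cycle hN ?_ hpr.symm h2 h3
  intro h4
  exact hpr (π.injective (h4.trans h1.symm))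

/-- **A 2-group of permutations normalised by the transpositions of at least 5 points fixes these points.** -/
theorem fix_of_swaps {N : Subgroup (Equiv.Perm Ω)} (hN : IsPGroup 2 N) (Γ : Finset Ω) (h5 : 5 ≤ Γ.card)
    (hn : ∀ p ∈ Γ, ∀ q ∈ Γ, ∀ π ∈ N, Equiv.swap p q * π * Equiv.swap p q ∈ N) {π : Equiv.Perm Ω} (hπ : π ∈ N)
    {p : Ω} (hp : p ∈ Γ) : π p = p := by
  have stepa := fix_of_fix hN Γ hn
  by_contra h1
  have h2 : ∀ r ∈ Γ, π r ≠ r := fun r hr h3 => h1 (stepa π hπ p hp r hr h3)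
  obtain ⟨q, hq, hq1⟩ := Finset.exists_mem_notMem_of_card_lt_card (s := {p, π p, π⁻¹ p}) (t := Γ)
    (lt_of_le_of_lt Finset.card_le_three (by omega))
  simp only [Finset.mem_insert, Finset.mem_singleton, not_or] at hq1
  obtain ⟨q1, q2, q3⟩ := hq1
  obtain ⟨r, hr, hr1⟩ := Finset.exists_mem_notMem_of_card_lt_card (s := {p, q, π p, π q}) (t := Γ)
    (lt_of_le_of_lt Finset.card_le_four (by omega))
  simp only [Finset.mem_insert, Finset.mem_singleton, not_or] at hr1
  obtain ⟨r1, r2, r3, r4⟩ := hr1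
  have h3 := comm_mem (hn p hp q hq) hπ
  have h4 := stepa _ h3 p hp r hr (by
    rw [Equiv.Perm.mul_apply, Equiv.swap_apply_of_ne_of_ne r1 r2, Equiv.swap_apply_of_ne_of_ne r3 r4])
  rw [Equiv.Perm.mul_apply, Equiv.swap_apply_left, Equiv.swap_apply_of_ne_of_ne q2 (h2 q hq).symm] at h4
  exact q1 h4

/-- a 2-group of permutations which preserves a set of 3 points and is normalised by its transpositions fixes these
points -/
theorem fix_of_swaps_three {N : Subgroup (Equiv.Perm Ω)} (hN : IsPGroup 2 N) (Γ : Finset Ω) (h3 : Γ.card = 3)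
    (hn : ∀ p ∈ Γ, ∀ q ∈ Γ, ∀ π ∈ N, Equiv.swap p q * π * Equiv.swap p q ∈ N)
    (hpres : ∀ π ∈ N, ∀ p ∈ Γ, π p ∈ Γ) {π : Equiv.Perm Ω} (hπ : π ∈ N) {p : Ω} (hp : p ∈ Γ) : π p = p := by
  have stepa := fix_of_fix hN Γ hn
  by_contra h1
  have h2 : ∀ r ∈ Γ, π r ≠ r := fun r hr h3 => h1 (stepa π hπ p hp r hr h3)
  have hp1 := hpres π hπ p hp
  have hp2 := hpres π hπ _ hp1
  have hp3 := hpres π hπ _ hp2
  have n1 := h2 p hp
  have n2 := h2 _ hp1
  have n3 := h2 _ hp2
  -- `π (π p) ≠ p`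
  have n4 : π (π p) ≠ p := by
    intro h4
    obtain ⟨r, hr, hr1⟩ := Finset.exists_mem_notMem_of_card_lt_card (s := {p, π p}) (t := Γ)
      (lt_of_le_of_lt Finset.card_le_two (by omega))
    simp only [Finset.mem_insert, Finset.mem_singleton, not_or] at hr1
    obtain ⟨r1, r2⟩ := hr1
    have hr2 := hpres π hπ r hr
    have hsub : ({p, π p, r} : Finset Ω) ⊆ Γ := by
      intro y hy
      simp only [Finset.mem_insert, Finset.mem_singleton] at hy
      rcases hy with rfl | rfl | rfl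
      · exact hp
      · exact hp1
      · exact hr
    have hc : ({p, π p, r} : Finset Ω).card = 3 := Finset.card_eq_three.2 ⟨p, π p, r, n1.symm, Ne.symm r1, Ne.symm r2, rfl⟩
    have heq := Finset.eq_of_subset_of_card_le hsub (by omega)
    rw [← heq] at hr2
    simp only [Finset.mem_insert, Finset.mem_singleton] at hr2
    rcases hr2 with h5 | h5 | h5
    · exact r2 (π.injective (h5.trans h4.symm))
    · exact r1 (π.injective h5)
    · exact h2 r hr h5
  have h5 : π (π (π p)) = p := by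
    have hsub : ({p, π p, π (π p)} : Finset Ω) ⊆ Γ := by
      intro y hy
      simp only [Finset.mem_insert, Finset.mem_singleton] at hy
      rcases hy with rfl | rfl | rfl
      · exact hp
      · exact hp1
      · exact hp2
    have hc : ({p, π p, π (π p)} : Finset Ω).card = 3 :=
      Finset.card_eq_three.2 ⟨p, π p, π (π p), n1.symm, n4.symm, n2.symm, rfl⟩
    have heq := Finset.eq_of_subset_of_card_le hsub (by omega)
    rw [← heq] at hp3
    simp only [Finset.mem_insert, Finset.mem_singleton] at hp3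
    rcases hp3 with h5 | h5 | h5
    · exact h5
    · exact absurd (π.injective h5) n4
    · exact absurd h5 n3
  obtain ⟨j, hj⟩ := hN ⟨π, hπ⟩
  have hj' : π ^ 2 ^ j = 1 := congrArg Subtype.val hj
  have h6 : Function.IsPeriodicPt π 3 p := h5
  have h7 : Function.IsPeriodicPt π (2 ^ j) p := by
    change (π^[2 ^ j]) p = p
    rw [Equiv.Perm.iterate_eq_pow, hj']
    rfl
  have h8 := h6.gcd h7
  rw [show Nat.gcd 3 (2 ^ j) = 1 from Nat.Coprime.pow_right j (by norm_num)] at h8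
  exact n1 h8

end swaps

end Cfsg.Agent.Omega.IId.SymWrD.RankAbs

end

-- merged: Cfsg.Agent.Mrg.Omega.IId.SymWrD.Rank
section

section


/-!
# II.d, `SwBig`, `SwCv`: the rank arguments (R0), (R1) of THEOREM L (bb OMEGA #17498, #17636)

* `R0` : `X` a 2-group normalised by `A` with `X ∩ A ≤ O₂(P)` lies in `O₂(P)`;
* `R1` : `X` a 2-group normalised by `D` with `X ∩ D ≤ A` lies in `A`.
-/

set_option autoImplicit false

namespace Cfsg.Agent.Omega.IId.SymWrD

open Subgroup Pointwise Cfsg Cfsg.Agent.ZN Cfsg.Agent.Omega.MinPar Cfsg.Agent.Omega.FFThm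
open Cfsg.Agent.Omega.Half.SymA (Pt E Mv pm Amb0)
open Cfsg.Agent.MinSimple.VModule (mem_zc zc_le zc_comm zc_sq zc_le_zl le_normalizer_o2 o2_isPGroup o2_le
  normalizer_le_normalizer_zc le_normalizer_zl le_centralizer_zc)

universe u

variable {G : Type u} [Group G] {P V : Subgroup G} {k m : ℕ}

section basic

variable {S : Sylow 2 G} {M : SymK (S : Subgroup G) P V ⊥ k m} (h : Sit S P V M)

include h

theorem Sit.exists_nz (i : Fin k) : ∃ p : Pt k m, p.1 = i ∧ p.2 ≠ 0 := by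
  obtain ⟨c, hc, -⟩ := Half.SymA.exists_third h.hm1 0 0
  exact ⟨(i, c), rfl, hc⟩

/-- an element of `S` which fixes the summands fixes the zero points -/
theorem Sit.fix_zero {s : G} (hs : s ∈ (S : Subgroup G)) (h1 : ∀ p : Pt k m, p.2 ≠ 0 → (pp M s p).1 = p.1)
    {p : Pt k m} (hp : p.2 = 0) : pp M s p = p := by
  obtain ⟨q, hq, hq0⟩ := h.exists_nz p.1
  have h2 : (pp M s p).1 = (pp M s q).1 := h.fst (h.SP hs) hq.symm
  rw [h1 q hq0, hq] at h2
  exact Prod.ext h2 (((h.snd hs).2 hp).trans hp.symm)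

theorem Sit.mul_apply {g g' : G} (hg : g ∈ P) (hg' : g' ∈ P) (p : Pt k m) :
    pp M (g * g') p = pp M g (pp M g' p) := by
  rw [h.mul hg hg', Equiv.Perm.mul_apply]

end basic

section R0

variable {S : Sylow 2 G} {M : SymK (S : Subgroup G) P V ⊥ k m}

/-- the action of `S` on the points `≠ 0` -/
noncomputable def actNz (h : Sit S P V M) : (S : Subgroup G) →* Equiv.Perm {p : Pt k m // p.2 ≠ 0} where
  toFun s := (pp M (s : G)).subtypePerm fun _ => not_congr (h.snd s.2)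
  map_one' := by
    ext1 p
    apply Subtype.ext
    change pp M ((1 : (S : Subgroup G)) : G) p = p
    rw [OneMemClass.coe_one, h.one]
    rfl
  map_mul' s t := by
    ext1 p
    apply Subtype.ext
    change pp M ((s * t : (S : Subgroup G)) : G) p = pp M s (pp M t p)
    rw [MulMemClass.coe_mul, h.mul_apply (h.SP s.2) (h.SP t.2)]

theorem actNz_apply (h : Sit S P V M) (s : (S : Subgroup G)) (p : {p : Pt k m // p.2 ≠ 0}) :
    ((actNz h s p : {p : Pt k m // p.2 ≠ 0}) : Pt k m) = pp M (s : G) p := rfl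

theorem actNz_eq_one (h : Sit S P V M) (s : (S : Subgroup G)) : actNz h s = 1 ↔ (s : G) ∈ o2 P := by
  rw [h.mem_Q_iff s.2]
  constructor
  · intro h1
    have h2 : ∀ p : Pt k m, p.2 ≠ 0 → pp M (s : G) p = p := by
      intro p hp
      have h3 := actNz_apply h s ⟨p, hp⟩
      rw [h1] at h3
      exact h3.symm
    ext1 p
    by_cases hp : p.2 = 0
    · exact h.fix_zero s.2 (fun q hq => by rw [h2 q hq]) hp
    · exact h2 p hp
  · intro h1
    ext1 p
    apply Subtype.ext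
    rw [actNz_apply, h1]
    rfl

variable [Finite G]

open scoped Classical in
/-- **(R0)** -/
theorem R0 {μ ν : Equiv.Perm (Pt k m)} (h : Sit S P V M) (F : Fours M μ ν) {X : Subgroup G} (hX : IsPGroup 2 X)
    (hAX : Fours.A h F ≤ normalizer (X : Set G)) (hXA : X ⊓ Fours.A h F ≤ o2 P) : X ≤ o2 P := by
  refine RankAbs.le_of_normalises S (B := o2 P) (C := Fours.A h F) (E := zc (o2 P)) (Fours.Q_le_A h F)
    (Fours.A_le h F) (h.SP.trans (le_normalizer_o2 P)) (normalizer_le_normalizer_zc _) ?_ ?_ ?_ hX hAX hXA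
  · refine le_antisymm ?_ (le_inf h.QS (le_centralizer_zc _))
    conv_rhs => rw [h.Q_eq]
    exact inf_le_inf_left _ (centralizer_le h.VZ)
  · intro c hc
    rw [h.mem_Q_iff (mul_mem hc.1 hc.1), h.mul (h.SP hc.1) (h.SP hc.1)]
    exact F.FA_sq hc.2
  · intro U hU1 hU2 hU3
    refine RankAbs.card_le_of_rank (actNz h) (actNz_eq_one h)
      (μ.subtypePerm fun _ => not_congr F.mnz) (fun x => Subtype.ext (F.msq x))
      (fun x hx => F.mne x x.2 (congrArg Subtype.val hx)) (Fours.Q_le_A h F) (Fours.A_le h F) ?_ hU1 hU2 hU3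
    intro π hπ
    have h1 : ∀ p : Pt k m, ∀ hp : p.2 ≠ 0, Equiv.Perm.ofSubtype π p = π ⟨p, hp⟩ := fun p hp =>
      Equiv.Perm.ofSubtype_apply_of_mem π hp
    obtain ⟨s, hs, h2⟩ := Fours.exists_A h F (π := Equiv.Perm.ofSubtype π) (by
      intro p
      by_cases hp : p.2 = 0
      · left
        exact Equiv.Perm.ofSubtype_apply_of_not_mem π (not_not.2 hp)
      · rcases hπ ⟨p, hp⟩ with h3 | h3
        · left
          rw [h1 p hp, h3]
        · right
          rw [h1 p hp, h3]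
          rfl)
    refine ⟨⟨s, hs.1⟩, hs, ?_⟩
    ext1 p
    apply Subtype.ext
    rw [actNz_apply]
    change pp M s p = _
    rw [h2, h1 p p.2]

end R0

/-! ### The action on the pairs -/

section R1

variable {S : Sylow 2 G} {M : SymK (S : Subgroup G) P V ⊥ k m} {μ ν : Equiv.Perm (Pt k m)}

/-- `p` and `q` belong to the same pair -/
def pst (F : Fours M μ ν) : Setoid {p : Pt k m // p.2 ≠ 0} where
  r p q := (q : Pt k m) = p ∨ (q : Pt k m) = μ p
  iseqv :=
    { refl := fun _ => Or.inl rfl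
      symm := by
        rintro p q (h | h)
        · exact Or.inl h.symm
        · right
          rw [h, F.msq]
      trans := by
        rintro p q r (h | h) (h' | h')
        · left; rw [h', h]
        · right; rw [h', h]
        · right; rw [h', h]
        · left; rw [h', h, F.msq] }

/-- the pairs -/
abbrev Prs (F : Fours M μ ν) := Quotient (pst F)

/-- the pair of `p` -/
def mkp (F : Fours M μ ν) (p : Pt k m) (hp : p.2 ≠ 0) : Prs F := Quotient.mk (pst F) ⟨p, hp⟩

theorem mkp_eq {F : Fours M μ ν} {p q : Pt k m} {hp : p.2 ≠ 0} {hq : q.2 ≠ 0} :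
    mkp F p hp = mkp F q hq ↔ q = p ∨ q = μ p := by
  rw [mkp, mkp, Quotient.eq]
  rfl

theorem exists_mkp {F : Fours M μ ν} (x : Prs F) : ∃ p hp, x = mkp F p hp := by
  obtain ⟨⟨p, hp⟩, rfl⟩ := Quotient.exists_rep x
  exact ⟨p, hp, rfl⟩

/-- the action of a permutation on the pairs -/
def onPrs (F : Fours M μ ν) (π : Equiv.Perm (Pt k m)) (h0 : ∀ p, (π p).2 = 0 ↔ p.2 = 0)
    (h1 : ∀ p, π (μ p) = μ (π p)) : Prs F → Prs F :=
  Quotient.map' (fun p => ⟨π p, fun h => p.2 ((h0 _).1 h)⟩) (by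
    rintro p q (h | h)
    · left
      change π q = π p
      rw [h]
    · right
      change π q = μ (π p)
      rw [h, h1])

theorem onPrs_mkp {F : Fours M μ ν} {π : Equiv.Perm (Pt k m)} {h0 : ∀ p, (π p).2 = 0 ↔ p.2 = 0}
    {h1 : ∀ p, π (μ p) = μ (π p)} {p : Pt k m} {hp : p.2 ≠ 0} :
    onPrs F π h0 h1 (mkp F p hp) = mkp F (π p) (fun h => hp ((h0 _).1 h)) := rfl

/-- the action of `S` on the pairs -/
@[implicit_reducible] noncomputable def actPr (h : Sit S P V M) (F : Fours M μ ν) : MulAction (S : Subgroup G) (Prs F) where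
  smul s := onPrs F (pp M (s : G)) (fun _ => h.snd s.2) (F.meqv s s.2)
  one_smul x := by
    obtain ⟨p, hp, rfl⟩ := exists_mkp x
    change mkp F (pp M ((1 : (S : Subgroup G)) : G) p) _ = _
    rw [mkp_eq]
    left
    rw [OneMemClass.coe_one, h.one]
    rfl
  mul_smul s t x := by
    obtain ⟨p, hp, rfl⟩ := exists_mkp x
    change mkp F (pp M ((s * t : (S : Subgroup G)) : G) p) _ = mkp F (pp M (s : G) (pp M (t : G) p)) _
    rw [mkp_eq]
    left
    rw [MulMemClass.coe_mul, h.mul_apply (h.SP s.2) (h.SP t.2)]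

/-- the homomorphism -/
noncomputable def homPr (h : Sit S P V M) (F : Fours M μ ν) : (S : Subgroup G) →* Equiv.Perm (Prs F) :=
  @MulAction.toPermHom (S : Subgroup G) (Prs F) _ (actPr h F)

theorem homPr_mkp (h : Sit S P V M) (F : Fours M μ ν) (s : (S : Subgroup G)) {p : Pt k m} {hp : p.2 ≠ 0} :
    homPr h F s (mkp F p hp) = mkp F (pp M (s : G) p) (fun h0 => hp ((h.snd s.2).1 h0)) := rfl

theorem homPr_eq_one (h : Sit S P V M) (F : Fours M μ ν) (s : (S : Subgroup G)) :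
    homPr h F s = 1 ↔ (s : G) ∈ Fours.A h F := by
  constructor
  · intro h1
    have h2 : ∀ p : Pt k m, p.2 ≠ 0 → pp M (s : G) p = p ∨ pp M (s : G) p = μ p := by
      intro p hp
      have h3 := homPr_mkp h F s (hp := hp)
      rw [h1] at h3
      exact mkp_eq.1 h3
    refine ⟨s.2, fun p => ?_⟩
    by_cases hp : p.2 = 0
    · left
      refine h.fix_zero s.2 (fun q hq => ?_) hp
      rcases h2 q hq with h3 | h3
      · rw [h3]
      · rw [h3, F.mfst]
    · exact h2 p hp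
  · rintro ⟨-, h1⟩
    ext1 x
    obtain ⟨p, hp, rfl⟩ := exists_mkp x
    rw [homPr_mkp, Equiv.Perm.one_apply, mkp_eq]
    rcases h1 p with h2 | h2
    · left; rw [h2]
    · right; rw [h2, F.msq]

/-- the involution of the pairs -/
def nuPr (F : Fours M μ ν) : Equiv.Perm (Prs F) where
  toFun := onPrs F ν (fun _ => F.nnz) (fun p => (F.comm p).symm)
  invFun := onPrs F ν (fun _ => F.nnz) (fun p => (F.comm p).symm)
  left_inv x := by
    obtain ⟨p, hp, rfl⟩ := exists_mkp x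
    rw [onPrs_mkp, onPrs_mkp, mkp_eq]
    left; rw [F.nsq]
  right_inv x := by
    obtain ⟨p, hp, rfl⟩ := exists_mkp x
    rw [onPrs_mkp, onPrs_mkp, mkp_eq]
    left; rw [F.nsq]

theorem nuPr_mkp {F : Fours M μ ν} {p : Pt k m} {hp : p.2 ≠ 0} :
    nuPr F (mkp F p hp) = mkp F (ν p) (fun h => hp (F.nnz.1 h)) := rfl

theorem nuPr_ne {F : Fours M μ ν} (x : Prs F) : nuPr F x ≠ x := by
  obtain ⟨p, hp, rfl⟩ := exists_mkp x
  rw [nuPr_mkp, Ne, mkp_eq]
  rintro (h1 | h1)
  · exact F.nne p hp h1.symm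
  · have h2 : μ p = ν p := by
      conv_lhs => rw [h1]
      exact F.msq _
    exact F.nmu p hp h2.symm

theorem nuPr_sq {F : Fours M μ ν} (x : Prs F) : nuPr F (nuPr F x) = x := (nuPr F).left_inv x

open scoped Classical in
/-- an element of `FD` inducing a permutation of the pairs which preserves all 4-blocks -/
theorem exists_FD (F : Fours M μ ν) (π : Equiv.Perm (Prs F)) (hπ : ∀ x, π x = x ∨ π x = nuPr F x) :
    ∃ δ ∈ F.FD, ∀ p, ∀ hp : p.2 ≠ 0, ∀ hp' : (δ p).2 ≠ 0, mkp F (δ p) hp' = π (mkp F p hp) := by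
  obtain ⟨f, hf⟩ : ∃ f : Pt k m → Pt k m, ∀ p, f p =
      if hp : p.2 = 0 then p else if π (mkp F p hp) = mkp F p hp then p else ν p := ⟨_, fun _ => rfl⟩
  have f0 : ∀ p, p.2 = 0 → f p = p := fun p hp => by rw [hf, dif_pos hp]
  have f1 : ∀ p, ∀ hp : p.2 ≠ 0, π (mkp F p hp) = mkp F p hp → f p = p := fun p hp h1 => by
    rw [hf, dif_neg hp, if_pos h1]
  have f2 : ∀ p, ∀ hp : p.2 ≠ 0, π (mkp F p hp) ≠ mkp F p hp → f p = ν p := fun p hp h1 => by
    rw [hf, dif_neg hp, if_neg h1]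
  have hff : ∀ p, f (f p) = p := by
    intro p
    by_cases hp : p.2 = 0
    · rw [f0 p hp, f0 p hp]
    · by_cases h1 : π (mkp F p hp) = mkp F p hp
      · rw [f1 p hp h1, f1 p hp h1]
      · have h2 : (ν p).2 ≠ 0 := fun h0 => hp (F.nnz.1 h0)
        rw [f2 p hp h1, f2 (ν p) h2, F.nsq]
        intro h3
        have h4 : π (mkp F p hp) = mkp F (ν p) h2 := by
          rcases hπ (mkp F p hp) with h5 | h5
          · exact absurd h5 h1
          · rw [h5, nuPr_mkp]
        have h5 := π.injective (h3.trans h4.symm)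
        rw [← nuPr_mkp (hp := hp)] at h5
        exact nuPr_ne _ h5
  refine ⟨⟨f, f, hff, hff⟩, ⟨fun p => ?_, fun p => ?_⟩, ?_⟩
  · change Fours.Cl μ ν p (f p)
    by_cases hp : p.2 = 0
    · left; exact f0 p hp
    · by_cases h1 : π (mkp F p hp) = mkp F p hp
      · left; exact f1 p hp h1
      · right; right; left; exact f2 p hp h1
  · change f (μ p) = μ (f p)
    by_cases hp : p.2 = 0
    · rw [F.mzero p hp, f0 p hp, F.mzero p hp]
    · have hp' : (μ p).2 ≠ 0 := fun h0 => hp (F.mnz.1 h0)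
      have e : mkp F (μ p) hp' = mkp F p hp := mkp_eq.2 (Or.inr (F.msq p).symm)
      by_cases h1 : π (mkp F p hp) = mkp F p hp
      · rw [f1 p hp h1, f1 (μ p) hp' (by rw [e, h1])]
      · rw [f2 p hp h1, f2 (μ p) hp' (by rw [e]; exact h1), F.comm]
  · intro p hp hp'
    change (f p).2 ≠ 0 at hp'
    change mkp F (f p) hp' = _
    by_cases h1 : π (mkp F p hp) = mkp F p hp
    · rw [h1, mkp_eq, f1 p hp h1]
      exact Or.inl rfl
    · have h4 : π (mkp F p hp) = nuPr F (mkp F p hp) := by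
        rcases hπ (mkp F p hp) with h5 | h5
        · exact absurd h5 h1
        · exact h5
      rw [h4, nuPr_mkp, mkp_eq, f2 p hp h1]
      exact Or.inl rfl

/-- `p.1 = (μ p).1`, so there is an element of `V` with support `{p, μ p}` -/
theorem exists_e (F : Fours M μ ν) (p : Pt k m) (hp : p.2 ≠ 0) :
    ∃ v ∈ V, ∀ r, E M v r = 1 ↔ r = p ∨ r = μ p := by
  classical
  obtain ⟨v, hv, h1⟩ := Half.SymA.exists_pair M (F.mfst p).symm
  refine ⟨v, hv, fun r => ?_⟩
  rw [h1]
  by_cases h2 : r = p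
  · subst h2
    rw [if_pos rfl, if_neg (F.mne r hp).symm, add_zero]
    exact ⟨fun _ => Or.inl rfl, fun _ => rfl⟩
  · by_cases h3 : r = μ p
    · rw [if_neg h2, if_pos h3, zero_add]
      exact ⟨fun _ => Or.inr h3, fun _ => rfl⟩
    · rw [if_neg h2, if_neg h3, add_zero]
      exact ⟨fun h4 => absurd h4.symm one_ne_zero, fun h4 => (h4.elim h2 h3).elim⟩

/-- `g ∈ P` commutes with `v ∈ V` iff it preserves the support of `v` -/
theorem Sit.comm_iff' (h : Sit S P V M) {g : G} (hg : g ∈ P) {v : G} (hv : v ∈ V) :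
    g * v = v * g ↔ ∀ p, E M v (pp M g p) = E M v p := by
  constructor
  · intro h1 p
    have h2 := E_conj (M := M) hg hv p
    rwa [h1, mul_inv_cancel_right] at h2
  · intro h1
    have h2 : g * v * g⁻¹ = v := by
      refine Half.SymA.inj M (h.amb.conj_mem hg hv) hv fun r => ?_
      have h3 := h1 ((pp M g)⁻¹ r)
      rw [E_conj' hg hv, ← h3]
      congr 1
      exact (pp M g).apply_symm_apply r
    rwa [mul_inv_eq_iff_eq_mul] at h2

theorem Sit.comm_iff_mem (h : Sit S P V M) {g : G} (hg : g ∈ P) {v : G} (hv : v ∈ V) :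
    g * v = v * g ↔ ∀ p, E M v (pp M g p) = 1 ↔ E M v p = 1 := by
  rw [h.comm_iff' hg hv]
  refine forall_congr' fun p => ?_
  have : ∀ a b : ZMod 2, a = b ↔ (a = 1 ↔ b = 1) := by decide
  exact this _ _

variable [Finite G]

omit [Finite G] in
theorem inf_centralizer_zc_A (h : Sit S P V M) (F : Fours M μ ν) :
    (S : Subgroup G) ⊓ centralizer (zc (Fours.A h F) : Set G) = Fours.A h F := by
  refine le_antisymm ?_ (le_inf (Fours.A_le h F) (le_centralizer_zc _))
  rintro s ⟨hs, hsC⟩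
  have h2 : ∀ p : Pt k m, p.2 ≠ 0 → pp M s p = p ∨ pp M s p = μ p := by
    intro p hp
    obtain ⟨v, hv, h1⟩ := exists_e F p hp
    have hvA : v ∈ zc (Fours.A h F) := by
      refine mem_zc.2 ⟨Fours.Q_le_A h F (zc_le _ (h.VZ hv)), fun a ha => ?_, h.amb.sq v hv⟩
      rw [h.comm_iff_mem (h.SP ha.1) hv]
      intro r
      have e1 : E M v (μ r) = 1 ↔ E M v r = 1 := by
        rw [h1, h1]
        constructor
        · rintro (h3 | h3)
          · right; rw [← h3, F.msq]
          · left; exact μ.injective h3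
        · rintro (h3 | h3)
          · right; rw [h3]
          · left; rw [h3, F.msq]
      rcases ha.2 r with h3 | h3
      · rw [h3]
      · rw [h3, e1]
    have h3 : s * v = v * s := (mem_centralizer_iff.1 hsC v hvA).symm
    rw [h.comm_iff_mem (h.SP hs) hv] at h3
    have h4 := (h3 p).2 ((h1 p).2 (Or.inl rfl))
    exact (h1 _).1 h4
  refine ⟨hs, fun p => ?_⟩
  by_cases hp : p.2 = 0
  · left
    refine h.fix_zero hs (fun q hq => ?_) hp
    rcases h2 q hq with h3 | h3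
    · rw [h3]
    · rw [h3, F.mfst]
  · exact h2 p hp

/-- **(R1)** -/
theorem R1 (h : Sit S P V M) (F : Fours M μ ν) {X : Subgroup G} (hX : IsPGroup 2 X)
    (hDX : Fours.D h F ≤ normalizer (X : Set G)) (hXD : X ⊓ Fours.D h F ≤ Fours.A h F) : X ≤ Fours.A h F := by
  refine RankAbs.le_of_normalises S (B := Fours.A h F) (C := Fours.D h F) (E := zc (Fours.A h F)) (Fours.A_le_D h F)
    (Fours.D_le h F) (Fours.S_le_normalizer_A h F) (normalizer_le_normalizer_zc _) (inf_centralizer_zc_A h F) ?_ ?_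
    hX hDX hXD
  · intro c hc
    refine ⟨mul_mem hc.1 hc.1, ?_⟩
    rw [h.mul (h.SP hc.1) (h.SP hc.1)]
    exact F.FD_sq hc.2
  · intro U hU1 hU2 hU3
    refine RankAbs.card_le_of_rank (homPr h F) (homPr_eq_one h F) (nuPr F) nuPr_sq nuPr_ne (Fours.A_le_D h F)
      (Fours.D_le h F) ?_ hU1 hU2 hU3
    intro π hπ
    obtain ⟨δ, hδ, h1⟩ := exists_FD F π hπ
    obtain ⟨s, hs, h2⟩ := Fours.exists_D h F hδ
    refine ⟨⟨s, hs.1⟩, hs, ?_⟩
    ext1 x
    obtain ⟨p, hp, rfl⟩ := exists_mkp x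
    rw [homPr_mkp]
    have h3 : (δ p).2 ≠ 0 := by
      rw [← h2]
      exact fun h0 => hp ((h.snd hs.1).1 h0)
    rw [← h1 p hp h3, mkp_eq]
    left
    change δ p = pp M s p
    rw [h2]

end R1

end Cfsg.Agent.Omega.IId.SymWrD

end

section


/-!
# II.d, `SwBig`, `SwCv`: (F0), (T) of THEOREM L (bb OMEGA #17498, #17636)

`F0` : `m ≥ 3`; the rest: `m ≥ 2`.

* `Sit.mem_Q_of_two` : a 2-element of `P` which acts trivially on the points lies in `O₂(P)`;
* `fix_of_core` : the elements of `O₂(C(T)) ∩ P` (`T ⊆ V`) fix all points of a summand outside a set `B`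
  if `T` does not separate these points;
* `F0` : `O₂(C(σ)) ≤ O₂(P)` for `σ` with support the points `≠ 0` of a summand;
* `T_two` : `W ∩ P` acts inside `⟨(x μx)⟩`, `W = O₂(C(n))`, `n = {x, μ x}`; `T_inf_le` : `W ∩ P ≤ A`;
* `T_le` : `C_W(p) ≤ A`, `p = {ν x, μ ν x}`; `T_mem` : `C_W(q) ≤ A` for all pairs `q` in the summand of `x`, disjoint
  from `n`.
-/

set_option autoImplicit false

namespace Cfsg.Agent.Omega.IId.SymWrD

open Subgroup Pointwise Cfsg Cfsg.Agent.ZN Cfsg.Agent.Omega.MinPar Cfsg.Agent.Omega.FFThm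
open Cfsg.Agent.Omega.Half.SymA (Pt E Mv pm Amb0)
open Cfsg.Agent.MinSimple.VModule (mem_zc zc_le zc_comm zc_sq zc_le_zl le_normalizer_o2 o2_isPGroup o2_le
  normalizer_le_normalizer_zc le_normalizer_zl le_centralizer_zc le_o2)

universe u

variable {G : Type u} [Group G] {P V : Subgroup G} {k m : ℕ}

section fix

variable {S : Sylow 2 G} {M : SymK (S : Subgroup G) P V ⊥ k m} (h : Sit S P V M)

theorem Sit.isPGroup_Q (_h : Sit S P V M) : IsPGroup 2 (o2 P) := o2_isPGroup P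

theorem Sit.conj_Q (_h : Sit S P V M) {g x : G} (hg : g ∈ P) (hx : x ∈ o2 P) : g * x * g⁻¹ ∈ o2 P :=
  (mem_normalizer_iff.1 (le_normalizer_o2 P hg) x).1 hx

/-- a 2-element of `P` which acts trivially on the points lies in `O₂(P)` -/
theorem Sit.mem_Q_of_two [Finite G] (h : Sit S P V M) {X : Subgroup G} (hX : IsPGroup 2 X) (hXP : X ≤ P) {x : G} (hx : x ∈ X)
    (h1 : pp M x = 1) : x ∈ o2 P := by
  obtain ⟨g, hg, hgX⟩ := S5.TT.exists_conj_le_sylow S P X h.SP hX hXP
  have h2 : g * x * g⁻¹ ∈ o2 P := by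
    rw [h.mem_Q_iff (hgX x hx), h.conj hg (hXP hx), h1, mul_one, mul_inv_cancel]
  have h3 := h.conj_Q (inv_mem hg) h2
  have e : g⁻¹ * (g * x * g⁻¹) * g⁻¹⁻¹ = x := by group
  rwa [e] at h3

/-- the points outside `B` of a summand -/
theorem card_filter_ge (i : Fin k) (B : Finset (Pt k m)) {n : ℕ} (hB : B.card + n ≤ 2 ^ m + 1) :
    n ≤ ((Finset.univ : Finset (Pt k m)).filter fun p => p.1 = i ∧ p ∉ B).card := by
  have h1 : ((Finset.univ : Finset (Fin (2 ^ m + 1))).map ⟨fun y => ((i, y) : Pt k m), fun a b hab =>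
      (Prod.ext_iff.1 hab).2⟩) \ B ⊆ (Finset.univ : Finset (Pt k m)).filter fun p => p.1 = i ∧ p ∉ B := by
    intro p hp
    rw [Finset.mem_sdiff, Finset.mem_map] at hp
    obtain ⟨⟨y, -, rfl⟩, h2⟩ := hp
    exact Finset.mem_filter.2 ⟨Finset.mem_univ _, rfl, h2⟩
  refine le_trans ?_ (Finset.card_le_card h1)
  have h3 := Finset.le_card_sdiff B ((Finset.univ : Finset (Fin (2 ^ m + 1))).map ⟨fun y => ((i, y) : Pt k m),
    fun a b hab => (Prod.ext_iff.1 hab).2⟩)
  rw [Finset.card_map, Finset.card_univ, Fintype.card_fin] at h3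
  omega

/-- the points outside `B` of a summand, `B` contained in the summand -/
theorem card_filter_le (i : Fin k) (B : Finset (Pt k m)) (hB : ∀ p ∈ B, p.1 = i) :
    ((Finset.univ : Finset (Pt k m)).filter fun p => p.1 = i ∧ p ∉ B).card + B.card ≤ 2 ^ m + 1 := by
  have h1 : ((Finset.univ : Finset (Pt k m)).filter fun p => p.1 = i ∧ p ∉ B) ∪ B ⊆
      ((Finset.univ : Finset (Fin (2 ^ m + 1))).map ⟨fun y => ((i, y) : Pt k m), fun a b hab =>
        (Prod.ext_iff.1 hab).2⟩) := by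
    intro p hp
    rw [Finset.mem_map]
    rcases Finset.mem_union.1 hp with h2 | h2
    · exact ⟨p.2, Finset.mem_univ _, Prod.ext (Finset.mem_filter.1 h2).2.1.symm rfl⟩
    · exact ⟨p.2, Finset.mem_univ _, Prod.ext (hB p h2).symm rfl⟩
  have h2 := Finset.card_le_card h1
  rw [Finset.card_map, Finset.card_univ, Fintype.card_fin, Finset.card_union_of_disjoint] at h2
  · exact h2
  · rw [Finset.disjoint_left]
    intro p hp
    exact (Finset.mem_filter.1 hp).2.2

include h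

theorem Sit.exists_swap {p q : Pt k m} (hpq : p.1 = q.1) :
    ∃ t ∈ P, pp M t = Equiv.swap p q := by
  apply h.exists_pp
  intro r
  by_cases h1 : r = p
  · rw [h1, Equiv.swap_apply_left, hpq]
  · by_cases h2 : r = q
    · rw [h2, Equiv.swap_apply_right, hpq]
    · rw [Equiv.swap_apply_of_ne_of_ne h1 h2]

/-- **the 2-groups `X ≤ P` which are normalised by `C_P(T)`** -/
theorem fix_of_norm' {T : Set G} (hT : ∀ v ∈ T, v ∈ V) {X : Subgroup G} (hX : IsPGroup 2 X) (hXP : X ≤ P)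
    (hn : ∀ t ∈ P, t ∈ centralizer T → t ∈ normalizer (X : Set G)) {i : Fin k} {Γ : Finset (Pt k m)}
    (hi : ∀ p ∈ Γ, p.1 = i) (hc : 5 ≤ Γ.card ∨ (Γ.card = 3 ∧ ∀ x ∈ X, ∀ p ∈ Γ, pp M x p ∈ Γ))
    (hE : ∀ v ∈ T, ∀ p ∈ Γ, ∀ q ∈ Γ, E M v p = E M v q) {x : G} (hx : x ∈ X) {p : Pt k m} (hp : p ∈ Γ) :
    pp M x p = p := by
  set N : Subgroup (Equiv.Perm (Pt k m)) := (X.subgroupOf P).map (hom h.amb h.hm1 M) with hN
  have hmem : ∀ y ∈ X, pp M y ∈ N := fun y hy => ⟨⟨y, hXP hy⟩, mem_subgroupOf.2 hy, rfl⟩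
  have hN2 : IsPGroup 2 N := hX.comap_subtype.map _
  have hsw : ∀ q ∈ Γ, ∀ r ∈ Γ, ∀ π ∈ N, Equiv.swap q r * π * Equiv.swap q r ∈ N := by
    intro q hq r hr π hπ
    obtain ⟨y, hy, rfl⟩ := hπ
    have hyX : (y : G) ∈ X := mem_subgroupOf.1 hy
    change Equiv.swap q r * pp M (y : G) * Equiv.swap q r ∈ N
    obtain ⟨t, ht, htE⟩ := h.exists_swap ((hi q hq).trans (hi r hr).symm)
    have htC : t ∈ centralizer T := by
      rw [mem_centralizer_iff]
      intro v hv
      refine ((h.comm_iff' ht (hT v hv)).2 fun s => ?_).symm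
      rw [htE]
      have h1 := hE v hv q hq r hr
      by_cases h2 : s = q
      · rw [h2, Equiv.swap_apply_left, h1]
      · by_cases h3 : s = r
        · rw [h3, Equiv.swap_apply_right, h1]
        · rw [Equiv.swap_apply_of_ne_of_ne h2 h3]
    have h1 : t * y * t⁻¹ ∈ X := (mem_normalizer_iff.1 (hn t ht htC) _).1 hyX
    have h2 := hmem _ h1
    rwa [h.conj ht y.2, htE, Equiv.swap_inv] at h2
  rcases hc with hc | ⟨hc, hc'⟩
  · exact RankAbs.fix_of_swaps hN2 Γ hc hsw (hmem x hx) hp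
  · refine RankAbs.fix_of_swaps_three hN2 Γ hc hsw ?_ (hmem x hx) hp
    rintro _ ⟨y, hy, rfl⟩ q hq
    exact hc' y (mem_subgroupOf.1 hy) q hq

/-- the same, for the points of a summand outside `B` -/
theorem fix_of_norm {T : Set G} (hT : ∀ v ∈ T, v ∈ V) {X : Subgroup G} (hX : IsPGroup 2 X) (hXP : X ≤ P)
    (hn : ∀ t ∈ P, t ∈ centralizer T → t ∈ normalizer (X : Set G)) {i : Fin k} {B : Finset (Pt k m)}
    (hB : B.card + 5 ≤ 2 ^ m + 1)
    (hE : ∀ v ∈ T, ∀ p q : Pt k m, p.1 = i → q.1 = i → p ∉ B → q ∉ B → E M v p = E M v q) {x : G} (hx : x ∈ X)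
    {p : Pt k m} (hp : p.1 = i) (hpB : p ∉ B) : pp M x p = p := by
  refine fix_of_norm' h hT hX hXP hn (i := i) (Γ := (Finset.univ : Finset (Pt k m)).filter fun p => p.1 = i ∧ p ∉ B)
    (fun p hp => (Finset.mem_filter.1 hp).2.1) (Or.inl (card_filter_ge i B hB)) ?_ hx
    (Finset.mem_filter.2 ⟨Finset.mem_univ _, hp, hpB⟩)
  intro v hv q hq r hr
  obtain ⟨-, hq1, hq2⟩ := Finset.mem_filter.1 hq
  obtain ⟨-, hr1, hr2⟩ := Finset.mem_filter.1 hr
  exact hE v hv q r hq1 hr1 hq2 hr2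

omit h in
theorem inf_norm {T : Set G} {t : G} (ht : t ∈ P) (htC : t ∈ centralizer T) :
    t ∈ normalizer ((o2 (centralizer T) ⊓ P : Subgroup G) : Set G) :=
  inf_normalizer_le_normalizer_inf ⟨le_normalizer_o2 _ htC, le_normalizer ht⟩

/-- the same for `X = O₂(C(T)) ∩ P` -/
theorem fix_of_core {T : Set G} (hT : ∀ v ∈ T, v ∈ V) {i : Fin k} {B : Finset (Pt k m)}
    (hB : B.card + 5 ≤ 2 ^ m + 1)
    (hE : ∀ v ∈ T, ∀ p q : Pt k m, p.1 = i → q.1 = i → p ∉ B → q ∉ B → E M v p = E M v q) {x : G}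
    (hx : x ∈ o2 (centralizer T)) (hxP : x ∈ P) {p : Pt k m} (hp : p.1 = i) (hpB : p ∉ B) : pp M x p = p :=
  fix_of_norm h hT (X := o2 (centralizer T) ⊓ P) ((o2_isPGroup _).to_le inf_le_left) inf_le_right
    (fun _ ht htC => inf_norm ht htC) hB hE ⟨hx, hxP⟩ hp hpB

end fix

section T

variable [Finite G] {S : Sylow 2 G} {M : SymK (S : Subgroup G) P V ⊥ k m} (h : Sit S P V M)

theorem eight_le (h3 : 3 ≤ m) : 8 ≤ 2 ^ m := by
  calc 8 = 2 ^ 3 := by norm_num
    _ ≤ 2 ^ m := Nat.pow_le_pow_right (by norm_num) h3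

include h in
omit [Finite G] in
theorem four_le : 4 ≤ 2 ^ m := by
  calc 4 = 2 ^ 2 := by norm_num
    _ ≤ 2 ^ m := Nat.pow_le_pow_right (by norm_num) h.hm

include h

/-- **(F0)** -/
theorem F0 (h3 : 3 ≤ m) {l : Fin k} {σ : G} (hσ : σ ∈ V) (hE : ∀ p, E M σ p = 1 ↔ p.1 = l ∧ p.2 ≠ 0) :
    o2 (centralizer ({σ} : Set G)) ≤ o2 P := by
  classical
  obtain ⟨μ, ν, F⟩ := exists_fours h
  have h8 := eight_le h3
  have hz : ∀ a : ZMod 2, a ≠ 1 → a = 0 := by decide
  refine R0 h F (o2_isPGroup _) ?_ ?_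
  · have h1 : Fours.A h F ≤ centralizer ({σ} : Set G) := by
      intro a ha
      rw [mem_centralizer_singleton_iff, h.comm_iff_mem (h.SP ha.1) hσ]
      intro p
      rw [hE, hE, F.FA_fst ha.2, Ne, h.snd ha.1]
    exact h1.trans (le_normalizer_o2 _)
  · rintro x ⟨hx, hxA⟩
    rw [h.mem_Q_iff hxA.1]
    have key : ∀ p : Pt k m, p ≠ (l, 0) → pp M x p = p := by
      intro p hp
      refine fix_of_core h (T := {σ}) (fun v hv => by rw [Set.mem_singleton_iff.1 hv]; exact hσ) (i := p.1)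
        (B := {(l, 0)}) (by rw [Finset.card_singleton]; omega) ?_ hx (h.SP hxA.1) rfl
        (fun h1 => hp (Finset.mem_singleton.1 h1))
      rintro v hv q r hq hr hqB hrB
      rw [Set.mem_singleton_iff.1 hv]
      rw [Finset.mem_singleton] at hqB hrB
      by_cases h1 : p.1 = l
      · rw [(hE q).2 ⟨hq.trans h1, fun h0 => hqB (Prod.ext (hq.trans h1) h0)⟩,
          (hE r).2 ⟨hr.trans h1, fun h0 => hrB (Prod.ext (hr.trans h1) h0)⟩]
      · rw [hz _ fun h2 => h1 (hq.symm.trans ((hE q).1 h2).1), hz _ fun h2 => h1 (hr.symm.trans ((hE r).1 h2).1)]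
    ext1 p
    by_cases hp : p = (l, 0)
    · by_contra h1
      have h2 : pp M x p ≠ (l, 0) := by
        rw [← hp]
        exact h1
      exact h1 ((pp M x).injective (key _ h2))
    · exact key p hp

section pair

variable {μ ν : Equiv.Perm (Pt k m)} (F : Fours M μ ν) {x : Pt k m} (hx : x.2 ≠ 0) {n : G} (hn : n ∈ V)
  (hnE : ∀ r, E M n r = 1 ↔ r = x ∨ r = μ x)

include F hx hn hnE

omit [Finite G] in
/-- the elements of `W ∩ P` fix all points outside `{x, μ x}` -/
theorem fix_T {g : G} (hg : g ∈ o2 (centralizer ({n} : Set G))) (hgP : g ∈ P) {r : Pt k m} (hr : r ≠ x)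
    (hr' : r ≠ μ x) : pp M g r = r := by
  have h4 := four_le h
  have hz : ∀ a : ZMod 2, a ≠ 1 → a = 0 := by decide
  have hTV : ∀ v ∈ ({n} : Set G), v ∈ V := fun v hv => by rw [Set.mem_singleton_iff.1 hv]; exact hn
  have hfst : (μ x).1 = x.1 := F.mfst x
  by_cases hrx : r.1 = x.1
  · rcases Nat.lt_or_ge m 3 with hm | hm
    · have hm2 : 2 ^ m = 4 := by
        have : m = 2 := by have := h.hm; omega
        rw [this]; norm_num
      have hcB : ({x, μ x} : Finset (Pt k m)).card = 2 := Finset.card_pair (F.mne x hx).symm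
      have hc1 := card_filter_ge x.1 ({x, μ x} : Finset (Pt k m)) (n := 3) (by omega)
      have hc2 := card_filter_le x.1 ({x, μ x} : Finset (Pt k m)) (by
        intro p hp
        simp only [Finset.mem_insert, Finset.mem_singleton] at hp
        rcases hp with rfl | rfl
        · rfl
        · exact hfst)
      refine fix_of_norm' h hTV (X := o2 (centralizer {n}) ⊓ P) ((o2_isPGroup _).to_le inf_le_left) inf_le_right
        (fun _ ht htC => inf_norm ht htC) (i := x.1)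
        (Γ := (Finset.univ : Finset (Pt k m)).filter fun p => p.1 = x.1 ∧ p ∉ ({x, μ x} : Finset (Pt k m)))
        (fun p hp => (Finset.mem_filter.1 hp).2.1) (Or.inr ⟨by omega, ?_⟩) ?_ ⟨hg, hgP⟩
        (Finset.mem_filter.2 ⟨Finset.mem_univ _, hrx, fun h1 => ?_⟩)
      · rintro y ⟨hy, hyP⟩ p hp
        obtain ⟨-, hp1, hp2⟩ := Finset.mem_filter.1 hp
        have h1 : y * n = n * y := mem_centralizer_singleton_iff.1 (o2_le _ hy)
        rw [h.comm_iff_mem hyP hn] at h1
        have h2 : (pp M y x).1 = x.1 := by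
          rcases (hnE _).1 ((h1 x).2 ((hnE x).2 (Or.inl rfl))) with h5 | h5
          · rw [h5]
          · rw [h5, hfst]
        refine Finset.mem_filter.2 ⟨Finset.mem_univ _, (h.fst hyP hp1).trans h2, fun h5 => hp2 ?_⟩
        simp only [Finset.mem_insert, Finset.mem_singleton] at h5 ⊢
        exact (hnE _).1 ((h1 p).1 ((hnE _).2 h5))
      · rintro v hv q hq s hs
        rw [Set.mem_singleton_iff.1 hv]
        have hqB := (Finset.mem_filter.1 hq).2.2
        have hsB := (Finset.mem_filter.1 hs).2.2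
        simp only [Finset.mem_insert, Finset.mem_singleton] at hqB hsB
        rw [hz _ fun h2 => hqB ((hnE q).1 h2), hz _ fun h2 => hsB ((hnE s).1 h2)]
      · simp only [Finset.mem_insert, Finset.mem_singleton] at h1
        exact h1.elim hr hr'
    · have h8 := eight_le hm
      refine fix_of_core h hTV (i := r.1) (B := {x, μ x}) ?_ ?_ hg hgP rfl (fun h1 => ?_)
      · have := Finset.card_le_two (a := x) (b := μ x)
        omega
      · rintro v hv q s hq hs hqB hsB
        rw [Set.mem_singleton_iff.1 hv]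
        simp only [Finset.mem_insert, Finset.mem_singleton] at hqB hsB
        rw [hz _ fun h2 => hqB ((hnE q).1 h2), hz _ fun h2 => hsB ((hnE s).1 h2)]
      · simp only [Finset.mem_insert, Finset.mem_singleton] at h1
        exact h1.elim hr hr'
  · refine fix_of_core h hTV (i := r.1) (B := ∅) ?_ ?_ hg hgP rfl (Finset.notMem_empty _)
    · rw [Finset.card_empty]; omega
    · rintro v hv q s hq hs - -
      rw [Set.mem_singleton_iff.1 hv]
      have key : ∀ t : Pt k m, t.1 = r.1 → E M n t = 0 := by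
        intro t ht
        apply hz
        intro h2
        rcases (hnE t).1 h2 with h5 | h5
        · exact hrx (by rw [← ht, h5])
        · exact hrx (by rw [← ht, h5, hfst])
      rw [key q hq, key s hs]

omit [Finite G] in
/-- **(T), second half** : `W ∩ P` acts inside `⟨(x μx)⟩` -/
theorem T_two {g : G} (hg : g ∈ o2 (centralizer ({n} : Set G))) (hgP : g ∈ P) :
    pp M g = 1 ∨ pp M g = Equiv.swap x (μ x) := by
  have hfix : ∀ r, r ≠ x → r ≠ μ x → pp M g r = r := fun r h1 h2 => fix_T h F hx hn hnE hg hgP h1 h2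
  have hpres : ∀ r, r = x ∨ r = μ x → pp M g r = x ∨ pp M g r = μ x := by
    intro r hr
    have h1 : g * n = n * g := mem_centralizer_singleton_iff.1 (o2_le _ hg)
    rw [h.comm_iff_mem hgP hn] at h1
    exact (hnE _).1 ((h1 r).2 ((hnE r).2 hr))
  rcases hpres x (Or.inl rfl) with h1 | h1
  · left
    have h2 : pp M g (μ x) = μ x := by
      rcases hpres (μ x) (Or.inr rfl) with h2 | h2
      · have h4 : μ x = x := (pp M g).injective (h2.trans h1.symm)
        rw [h4, h1]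
      · exact h2
    ext1 r
    rw [Equiv.Perm.one_apply]
    by_cases h4 : r = x
    · rw [h4, h1]
    · by_cases h5 : r = μ x
      · rw [h5, h2]
      · exact hfix r h4 h5
  · by_cases hxx : x = μ x
    · left
      ext1 r
      rw [Equiv.Perm.one_apply]
      by_cases h4 : r = x
      · rw [h4, h1, ← hxx]
      · exact hfix r h4 (by rw [← hxx]; exact h4)
    · right
      have h2 : pp M g (μ x) = x := by
        rcases hpres (μ x) (Or.inr rfl) with h2 | h2
        · exact h2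
        · exact absurd ((pp M g).injective (h1.trans h2.symm)) hxx
      ext1 r
      by_cases h4 : r = x
      · rw [h4, h1, Equiv.swap_apply_left]
      · by_cases h5 : r = μ x
        · rw [h5, h2, Equiv.swap_apply_right]
        · rw [hfix r h4 h5, Equiv.swap_apply_of_ne_of_ne h4 h5]

/-- `W ∩ P ≤ A` -/
theorem T_inf_le : o2 (centralizer ({n} : Set G)) ⊓ P ≤ Fours.A h F := by
  classical
  rintro g ⟨hg, hgP⟩
  have hWP : IsPGroup 2 (o2 (centralizer ({n} : Set G)) ⊓ P : Subgroup G) := (o2_isPGroup _).to_le inf_le_left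
  rcases T_two h F hx hn hnE hg hgP with h1 | h1
  · exact Fours.Q_le_A h F (h.mem_Q_of_two hWP inf_le_right ⟨hg, hgP⟩ h1)
  · -- the transposition is induced by `A`
    obtain ⟨a, ha, h2⟩ := Fours.exists_A h F (π := Equiv.swap x (μ x)) (by
      intro p
      by_cases h4 : p = x
      · right; rw [h4, Equiv.swap_apply_left]
      · by_cases h5 : p = μ x
        · right; rw [h5, Equiv.swap_apply_right, F.msq]
        · left; exact Equiv.swap_apply_of_ne_of_ne h4 h5)
    have haP := h.SP ha.1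
    have haC : a ∈ centralizer ({n} : Set G) := by
      rw [mem_centralizer_singleton_iff, h.comm_iff_mem haP hn]
      intro r
      rw [hnE, hnE, h2]
      by_cases h4 : r = x
      · rw [h4, Equiv.swap_apply_left]
        exact ⟨fun _ => Or.inl rfl, fun _ => Or.inr rfl⟩
      · by_cases h5 : r = μ x
        · rw [h5, Equiv.swap_apply_right]
          exact ⟨fun _ => Or.inr rfl, fun _ => Or.inl rfl⟩
        · rw [Equiv.swap_apply_of_ne_of_ne h4 h5]
    have h5 : zpowers a ≤ normalizer ((o2 (centralizer ({n} : Set G)) ⊓ P : Subgroup G) : Set G) := by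
      rw [zpowers_le]
      exact inf_normalizer_le_normalizer_inf ⟨le_normalizer_o2 _ haC, le_normalizer haP⟩
    have : Fact (Nat.Prime 2) := ⟨Nat.prime_two⟩
    have h6 : IsPGroup 2 (zpowers a ⊔ (o2 (centralizer ({n} : Set G)) ⊓ P) : Subgroup G) :=
      (S.isPGroup'.to_le (zpowers_le.2 ha.1)).to_sup_of_normal_right' hWP h5
    have h7 : g * a⁻¹ ∈ o2 P := by
      refine h.mem_Q_of_two h6 (sup_le (zpowers_le.2 haP) inf_le_right)
        (mul_mem (mem_sup_right ⟨hg, hgP⟩) (inv_mem (mem_sup_left (mem_zpowers a)))) ?_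
      rw [h.mul hgP (inv_mem haP), h.inv haP, h1, h2, mul_inv_cancel]
    have h8 : g = g * a⁻¹ * a := by group
    rw [h8]
    exact mul_mem (Fours.Q_le_A h F h7) ha

variable {p : G} (hp : p ∈ V) (hpE : ∀ r, E M p r = 1 ↔ r = ν x ∨ r = μ (ν x))

include hp hpE

/-- `O₂(C(n) ∩ C(p)) ≤ A` for the two pairs `n`, `p` of a 4-block -/
theorem o2_pair_le : o2 (centralizer ({n, p} : Set G)) ≤ Fours.A h F := by
  classical
  have hf4 := four_le h
  have hz : ∀ a : ZMod 2, a ≠ 1 → a = 0 := by decide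
  have hTV : ∀ v ∈ ({n, p} : Set G), v ∈ V := by
    rintro v (rfl | hv)
    · exact hn
    · rw [Set.mem_singleton_iff.1 hv]; exact hp
  -- `D` permutes `n`, `p`
  have hDn : ∀ d ∈ Fours.D h F, ∀ v ∈ ({n, p} : Set G), d * v * d⁻¹ ∈ ({n, p} : Set G) := by
    intro d hd v hv
    have hdP := h.SP hd.1
    obtain ⟨hd1, hd2⟩ := hd.2
    have hvE : ∃ y, Fours.Cl μ ν x y ∧ ∀ r, E M v r = 1 ↔ r = y ∨ r = μ y := by
      rcases hv with rfl | hv
      · exact ⟨x, Or.inl rfl, hnE⟩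
      · rw [Set.mem_singleton_iff.1 hv]
        exact ⟨ν x, Or.inr (Or.inr (Or.inl rfl)), hpE⟩
    obtain ⟨y, hy, hvE⟩ := hvE
    have hcj : ∀ r, E M (d * v * d⁻¹) r = 1 ↔ r = pp M d y ∨ r = μ (pp M d y) := by
      intro r
      rw [E_conj' hdP (hTV v hv), hvE, Equiv.Perm.inv_eq_iff_eq, Equiv.Perm.inv_eq_iff_eq, hd2]
    have hz2 : ∀ a b : ZMod 2, (a = 1 ↔ b = 1) → a = b := by decide
    have hmem : d * v * d⁻¹ ∈ V := h.amb.conj_mem hdP (hTV v hv)
    rcases Fours.Cl.trans F hy (hd1 y) with h1 | h1 | h1 | h1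
    · left
      refine Half.SymA.inj M hmem hn fun r => hz2 _ _ ?_
      rw [hcj, hnE, h1]
    · left
      refine Half.SymA.inj M hmem hn fun r => hz2 _ _ ?_
      rw [hcj, hnE, h1, F.msq, or_comm]
    · right
      rw [Set.mem_singleton_iff]
      refine Half.SymA.inj M hmem hp fun r => hz2 _ _ ?_
      rw [hcj, hpE, h1]
    · right
      rw [Set.mem_singleton_iff]
      refine Half.SymA.inj M hmem hp fun r => hz2 _ _ ?_
      rw [hcj, hpE, h1, F.msq, or_comm]
  refine R1 h F (o2_isPGroup _) ?_ ?_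
  · refine le_trans ?_ (normalizer_le_normalizer_o2' _)
    intro d hd
    refine MinSimple.VModule.mem_normalizer_of_map_le ?_
    rintro _ ⟨c, hc, rfl⟩
    rw [SetLike.mem_coe, mem_centralizer_iff] at hc
    rw [mem_centralizer_iff]
    intro v hv
    have h1 := hc _ (hDn d⁻¹ (inv_mem hd) v hv)
    rw [inv_inv] at h1
    change v * (d * c * d⁻¹) = d * c * d⁻¹ * v
    calc v * (d * c * d⁻¹) = d * (d⁻¹ * v * d * c) * d⁻¹ := by group
      _ = d * (c * (d⁻¹ * v * d)) * d⁻¹ := by rw [h1]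
      _ = d * c * d⁻¹ * v := by group
  · rintro g ⟨hg, hgD⟩
    have hgP := h.SP hgD.1
    refine ⟨hgD.1, fun r => ?_⟩
    have hpres : ∀ v ∈ ({n, p} : Set G), ∀ r, E M v (pp M g r) = 1 ↔ E M v r = 1 := by
      intro v hv
      have h1 := (mem_centralizer_iff.1 (o2_le _ hg) v hv).symm
      rwa [h.comm_iff_mem hgP (hTV v hv)] at h1
    by_cases h1 : r = x ∨ r = μ x
    · have h2 := (hnE _).1 ((hpres n (Or.inl rfl) r).2 ((hnE r).2 h1))
      rcases h1 with rfl | rfl
      · exact h2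
      · rw [F.msq]
        exact h2.symm
    · by_cases h2 : r = ν x ∨ r = μ (ν x)
      · have h4 := (hpE _).1 ((hpres p (Or.inr rfl) r).2 ((hpE r).2 h2))
        rcases h2 with rfl | rfl
        · exact h4
        · rw [F.msq]
          exact h4.symm
      · left
        have hr1 : r ≠ x := fun h4 => h1 (Or.inl h4)
        have hr2 : r ≠ μ x := fun h4 => h1 (Or.inr h4)
        have hr3 : r ≠ ν x := fun h4 => h2 (Or.inl h4)
        have hr4 : r ≠ μ (ν x) := fun h4 => h2 (Or.inr h4)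
        have key : ∀ v ∈ ({n, p} : Set G), ∀ t : Pt k m, ¬ t = x → ¬ t = μ x → ¬ t = ν x → ¬ t = μ (ν x) →
            E M v t = 0 := by
          intro v hv t t1 t2 t3 t4
          rcases hv with rfl | hv
          · exact hz _ fun h5 => ((hnE t).1 h5).elim t1 t2
          · rw [Set.mem_singleton_iff.1 hv]
            exact hz _ fun h5 => ((hpE t).1 h5).elim t3 t4
        by_cases hrx : r.1 = x.1
        · rcases Nat.lt_or_ge m 3 with hm | hm
          · -- `m = 2`: `r` is the zero point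
            have hm2 : 2 ^ m = 4 := by
              have : m = 2 := by have := h.hm; omega
              rw [this]; norm_num
            have hn1 := F.nne x hx
            have hn2 := F.nmu x hx
            have hn3 : μ (ν x) ≠ ν x := F.mne _ (fun h0 => hx (F.nnz.1 h0))
            have hn4 : μ (ν x) ≠ x := by
              intro h0
              apply hn2
              rw [← F.msq (ν x), h0]
            have hn5 : μ (ν x) ≠ μ x := fun h0 => hn1 (μ.injective h0)
            have hc : ({x, μ x, ν x, μ (ν x)} : Finset (Pt k m)).card = 4 := by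
              rw [Finset.card_insert_of_notMem, Finset.card_insert_of_notMem, Finset.card_pair hn3.symm]
              · simp only [Finset.mem_insert, Finset.mem_singleton, not_or]
                exact ⟨hn2.symm, hn5.symm⟩
              · simp only [Finset.mem_insert, Finset.mem_singleton, not_or]
                exact ⟨(F.mne x hx).symm, hn1.symm, hn4.symm⟩
            have hc2 := card_filter_le x.1 ({x, μ x, ν x, μ (ν x)} : Finset (Pt k m)) (by
              intro p hp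
              simp only [Finset.mem_insert, Finset.mem_singleton] at hp
              rcases hp with rfl | rfl | rfl | rfl
              · rfl
              · exact F.mfst _
              · exact F.nfst _
              · rw [F.mfst, F.nfst])
            have hnot : ∀ t : Pt k m, t ≠ x → t ≠ μ x → t ≠ ν x → t ≠ μ (ν x) →
                t ∉ ({x, μ x, ν x, μ (ν x)} : Finset (Pt k m)) := by
              intro t t1 t2 t3 t4 h5
              simp only [Finset.mem_insert, Finset.mem_singleton] at h5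
              rcases h5 with h5 | h5 | h5 | h5
              · exact t1 h5
              · exact t2 h5
              · exact t3 h5
              · exact t4 h5
            have hone : ((Finset.univ : Finset (Pt k m)).filter fun p => p.1 = x.1 ∧
                p ∉ ({x, μ x, ν x, μ (ν x)} : Finset (Pt k m))).card ≤ 1 := by omega
            have hr0 : r = (x.1, 0) := by
              refine Finset.card_le_one.1 hone r
                (Finset.mem_filter.2 ⟨Finset.mem_univ _, hrx, hnot r hr1 hr2 hr3 hr4⟩) _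
                (Finset.mem_filter.2 ⟨Finset.mem_univ _, rfl, hnot _ ?_ ?_ ?_ ?_⟩)
              · intro h5; exact hx (by rw [← h5])
              · intro h5; exact hx (F.mnz.1 (by rw [← h5]))
              · intro h5; exact hx (F.nnz.1 (by rw [← h5]))
              · intro h5; exact hx (F.nnz.1 (F.mnz.1 (by rw [← h5])))
            have hr02 : r.2 = 0 := by rw [hr0]
            rcases hgD.2.1 r with h5 | h5 | h5 | h5
            · exact h5
            · rw [h5, F.mzero r hr02]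
            · rw [h5, F.nzero r hr02]
            · rw [h5, F.nzero r hr02, F.mzero r hr02]
          · have h8 := eight_le hm
            refine fix_of_core h hTV (i := r.1) (B := {x, μ x, ν x, μ (ν x)}) ?_ ?_ hg hgP rfl (fun h4 => ?_)
            · have := Finset.card_le_four (a := x) (b := μ x) (c := ν x) (d := μ (ν x))
              omega
            · rintro v hv q s hq hs hqB hsB
              simp only [Finset.mem_insert, Finset.mem_singleton, not_or] at hqB hsB
              rw [key v hv q hqB.1 hqB.2.1 hqB.2.2.1 hqB.2.2.2, key v hv s hsB.1 hsB.2.1 hsB.2.2.1 hsB.2.2.2]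
            · simp only [Finset.mem_insert, Finset.mem_singleton] at h4
              rcases h4 with h4 | h4 | h4 | h4
              · exact h1 (Or.inl h4)
              · exact h1 (Or.inr h4)
              · exact h2 (Or.inl h4)
              · exact h2 (Or.inr h4)
        · refine fix_of_core h hTV (i := r.1) (B := ∅) ?_ ?_ hg hgP rfl (Finset.notMem_empty _)
          · rw [Finset.card_empty]; omega
          · rintro v hv q s hq hs - -
            have hne : ∀ t : Pt k m, t.1 = r.1 → E M v t = 0 := by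
              intro t ht
              refine key v hv t ?_ ?_ ?_ ?_
              · intro h5; exact hrx (by rw [← ht, h5])
              · intro h5; exact hrx (by rw [← ht, h5, F.mfst])
              · intro h5; exact hrx (by rw [← ht, h5, F.nfst])
              · intro h5; exact hrx (by rw [← ht, h5, F.mfst, F.nfst])
            rw [hne q hq, hne s hs]

/-- **(T), first half, the sibling pair** -/
theorem T_le : o2 (centralizer ({n} : Set G)) ⊓ centralizer ({p} : Set G) ≤ Fours.A h F := by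
  refine le_trans (le_o2 ?_ ((o2_isPGroup _).to_le inf_le_left) ?_) (o2_pair_le h F hx hn hnE hp hpE)
  · rintro g ⟨hg, hgp⟩
    rw [mem_centralizer_iff]
    rintro v (rfl | hv)
    · exact (mem_centralizer_singleton_iff.1 (o2_le _ hg)).symm
    · rw [Set.mem_singleton_iff.1 hv]
      exact (mem_centralizer_singleton_iff.1 hgp).symm
  · intro c hc
    rw [mem_centralizer_iff] at hc
    have h1 : c ∈ centralizer ({n} : Set G) := mem_centralizer_singleton_iff.2 (hc n (Or.inl rfl)).symm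
    have h2 : c ∈ centralizer ({p} : Set G) := mem_centralizer_singleton_iff.2 (hc p (Or.inr rfl)).symm
    exact inf_normalizer_le_normalizer_inf ⟨le_normalizer_o2 _ h1, le_normalizer h2⟩

omit hp hpE

/-- **(T), first half** : for a pair `q = {y, y'}` in the summand of `x`, disjoint from `n = {x, μ x}`:
`C_W(q) ≤ A`. -/
theorem T_mem {q : G} (hq : q ∈ V) {y y' : Pt k m} (hyy : y ≠ y') (hy : y.1 = x.1) (hy' : y'.1 = x.1)
    (h1 : y ≠ x) (h2 : y ≠ μ x) (h1' : y' ≠ x) (h2' : y' ≠ μ x)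
    (hqE : ∀ r, E M q r = 1 ↔ r = y ∨ r = y') {g : G} (hg : g ∈ o2 (centralizer ({n} : Set G)))
    (hgq : g * q = q * g) : g ∈ Fours.A h F := by
  classical
  obtain ⟨p, hp, hpE⟩ := exists_e F (ν x) (fun h0 => hx (F.nnz.1 h0))
  have hz2 : ∀ a b : ZMod 2, (a = 1 ↔ b = 1) → a = b := by decide
  have hn1 := F.nne x hx
  have hn2 := F.nmu x hx
  have hn3 : μ (ν x) ≠ ν x := F.mne _ (fun h0 => hx (F.nnz.1 h0))
  have hn4 : μ (ν x) ≠ x := by
    intro h0
    apply hn2
    rw [← F.msq (ν x), h0]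
  have hn5 : μ (ν x) ≠ μ x := fun h0 => hn1 (μ.injective h0)
  -- the permutation
  set y₂ := Equiv.swap y (ν x) y' with hy₂
  have e1 : ν x ≠ y₂ := by
    intro h0
    apply hyy
    have h4 : Equiv.swap y (ν x) y = Equiv.swap y (ν x) y' := by rw [Equiv.swap_apply_left, ← hy₂, ← h0]
    exact (Equiv.swap y (ν x)).injective h4
  have e2 : y₂ ≠ x := by
    intro h0
    have h4 : Equiv.swap y (ν x) x = Equiv.swap y (ν x) y' := by
      rw [Equiv.swap_apply_of_ne_of_ne h1.symm hn1.symm, ← hy₂, h0]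
    exact h1' ((Equiv.swap y (ν x)).injective h4).symm
  have e3 : y₂ ≠ μ x := by
    intro h0
    have h4 : Equiv.swap y (ν x) (μ x) = Equiv.swap y (ν x) y' := by
      rw [Equiv.swap_apply_of_ne_of_ne h2.symm hn2.symm, ← hy₂, h0]
    exact h2' ((Equiv.swap y (ν x)).injective h4).symm
  have hsw : ∀ a b : Pt k m, a.1 = b.1 → ∀ r, (Equiv.swap a b r).1 = r.1 := by
    intro a b hab r
    by_cases h4 : r = a
    · rw [h4, Equiv.swap_apply_left, hab]
    · by_cases h5 : r = b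
      · rw [h5, Equiv.swap_apply_right, hab]
      · rw [Equiv.swap_apply_of_ne_of_ne h4 h5]
  have e4 : y₂.1 = x.1 := by rw [hy₂, hsw _ _ (by rw [hy, F.nfst]), hy']
  obtain ⟨c, hc, hcE⟩ := h.exists_pp (π := Equiv.swap y₂ (μ (ν x)) * Equiv.swap y (ν x)) (by
    intro r
    rw [Equiv.Perm.mul_apply, hsw _ _ (by rw [e4, F.mfst, F.nfst]), hsw _ _ (by rw [hy, F.nfst])])
  have c1 : pp M c y = ν x := by
    rw [hcE, Equiv.Perm.mul_apply, Equiv.swap_apply_left, Equiv.swap_apply_of_ne_of_ne e1 hn3.symm]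
  have c2 : pp M c y' = μ (ν x) := by
    rw [hcE, Equiv.Perm.mul_apply, ← hy₂, Equiv.swap_apply_left]
  have c3 : pp M c x = x := by
    rw [hcE, Equiv.Perm.mul_apply, Equiv.swap_apply_of_ne_of_ne h1.symm hn1.symm,
      Equiv.swap_apply_of_ne_of_ne e2.symm hn4.symm]
  have c4 : pp M c (μ x) = μ x := by
    rw [hcE, Equiv.Perm.mul_apply, Equiv.swap_apply_of_ne_of_ne h2.symm hn2.symm,
      Equiv.swap_apply_of_ne_of_ne e3.symm hn5.symm]
  have hcn : c ∈ centralizer ({n} : Set G) := by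
    have h4 : c * n * c⁻¹ = n := by
      refine Half.SymA.inj M (h.amb.conj_mem hc hn) hn fun r => hz2 _ _ ?_
      rw [E_conj' hc hn, hnE, hnE, Equiv.Perm.inv_eq_iff_eq, Equiv.Perm.inv_eq_iff_eq, c3, c4]
    rw [mem_centralizer_singleton_iff]
    rwa [mul_inv_eq_iff_eq_mul] at h4
  have hcq : c * q * c⁻¹ = p := by
    refine Half.SymA.inj M (h.amb.conj_mem hc hq) hp fun r => hz2 _ _ ?_
    rw [E_conj' hc hq, hqE, hpE, Equiv.Perm.inv_eq_iff_eq, Equiv.Perm.inv_eq_iff_eq, c1, c2]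
  have hW : c * g * c⁻¹ ∈ o2 (centralizer ({n} : Set G)) :=
    (mem_normalizer_iff.1 (le_normalizer_o2 _ hcn) g).1 hg
  have hCp : c * g * c⁻¹ ∈ centralizer ({p} : Set G) := by
    rw [mem_centralizer_singleton_iff, ← hcq]
    calc c * g * c⁻¹ * (c * q * c⁻¹) = c * (g * q) * c⁻¹ := by group
      _ = c * (q * g) * c⁻¹ := by rw [hgq]
      _ = c * q * c⁻¹ * (c * g * c⁻¹) := by group
  have h4 := h.SP (Fours.A_le h F (T_le h F hx hn hnE hp hpE ⟨hW, hCp⟩))
  have h5 : g = c⁻¹ * (c * g * c⁻¹) * c := by group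
  have h6 : g ∈ P := by
    rw [h5]
    exact mul_mem (mul_mem (inv_mem hc) h4) hc
  exact T_inf_le h F hx hn hnE ⟨hg, h6⟩

end pair

end T

end Cfsg.Agent.Omega.IId.SymWrD

end

section


/-!
# II.d, `SwBig`, `SwCv`: (T) of THEOREM L (bb OMEGA #17498), `D` arbitrary, all `m ≥ 2`

`tt` : `TT h F x`.
-/

set_option autoImplicit false

namespace Cfsg.Agent.Omega.IId.SymWrD

open Subgroup Pointwise Cfsg Cfsg.Agent.ZN Cfsg.Agent.Omega.MinPar Cfsg.Agent.Omega.FFThm
open Cfsg.Agent.Omega.Half.SymA (Pt E Mv pm Amb0)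

universe u

variable {G : Type u} [Group G] {P V : Subgroup G} {k m : ℕ}

theorem E_pr_iff {S : Subgroup G} (M : SymK S P V ⊥ k m) {p q : Pt k m} (h : p.1 = q.1) (hne : p ≠ q) (r : Pt k m) :
    E M (pr M p q) r = 1 ↔ r = p ∨ r = q := by
  constructor
  · intro h1
    by_contra h2
    rw [not_or] at h2
    rw [E_pr_of_ne M h h2.1 h2.2] at h1
    exact zero_ne_one h1
  · rintro (rfl | rfl)
    · exact E_pr_left M h hne
    · exact E_pr_right M h hne

/-- **(T)** -/
theorem tt [Finite G] {S : Sylow 2 G} {M : SymK (S : Subgroup G) P V ⊥ k m} {μ ν : Equiv.Perm (Pt k m)}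
    (h : Sit S P V M) (F : Fours M μ ν) {x : Pt k m} (hx : x.2 ≠ 0) : TT h F x := by
  have hn := pr_mem M x (μ x)
  have hnE := E_pr_iff M (F.mfst x).symm (F.mne x hx).symm
  refine ⟨fun g hg a b ha hb hab ha1 ha2 hb1 hb2 hgq => ?_, fun g hg hgP => ?_⟩
  · exact T_mem h F hx hn hnE (pr_mem M a b) hab ha hb ha1 ha2 hb1 hb2 (E_pr_iff M (ha.trans hb.symm) hab) hg hgq
  · exact T_two h F hx hn hnE hg hgP

end Cfsg.Agent.Omega.IId.SymWrD

end

end

-- merged: Cfsg.Agent.Mrg.Omega.IId.SymWrD.FOneAll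
section

section


/-!
# II.d, `SwBig` and `SwCv`: F1 for all `m ≥ 2`, all `k ≥ 1`, `D = C_V(O²(P))` arbitrary (bb OMEGA #17498)

* `ttAll`  : (T) for every fours structure and every point;
* `L_dat`  : `O₂(C_G({p,q})) ≤ P` and its action on the points, for every duad `{p,q}` of a block;
* `fOne_all` : **F1**.
-/

set_option autoImplicit false

namespace Cfsg.Agent.Omega.IId.SymWrD

open Subgroup Cfsg Cfsg.Agent.ZN Cfsg.Agent.Omega.MinPar Cfsg.Agent.Omega.FFThm
open Cfsg.Agent.Omega.FrameFF (cv)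
open Cfsg.Agent.Omega.Half.SymA (Pt)
open Cfsg.Agent.Omega.IId.SwCv (Lb du FOne)

universe u

variable {G : Type u} [Group G] [Finite G] {P V : Subgroup G} {k m : ℕ} {S : Sylow 2 G}

/-- **(T)** -/
theorem ttAll {M : SymK (S : Subgroup G) P V ⊥ k m} (h : Sit S P V M) : TTAll h :=
  fun _ _ F _ hx => tt h F hx

/-- the duads of one block -/
theorem L_dat {M : SymK (S : Subgroup G) P V ⊥ k m} {D : Subgroup G} (hD : SitD S P V D M) {p q : Pt k m}
    (hpq : p.1 = q.1) (hne : p ≠ q) :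
    ∀ g ∈ o2 (centralizer ({pr M p q} : Set G)), g ∈ P ∧ (pp M g = 1 ∨ pp M g = Equiv.swap p q) :=
  L_all hD (ttAll hD.toSit) hpq hne

/-- **F1** -/
theorem fOne_all {M : SymK (S : Subgroup G) P (zl (S : Subgroup G) P) (cv (S : Subgroup G) P) k m}
    {ε : Fin k → (Fin (2 ^ m + 1) → ZMod 2) → G} (hG : IsCharacteristicTwoType G) (hP : IsParS (S : Subgroup G) P)
    (hL : Lb M ε) (hk : 0 < k) (hm : 2 ≤ m) : FOne M ε :=
  fOne_of hG hP hL hk hm (ttAll _)

end Cfsg.Agent.Omega.IId.SymWrD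

end

section


/-!
# II.d, `SwBig`: F1 for all duads, `D = 1`, all `k ≥ 1`, `m ≥ 2` (bb OMEGA #17498)

`Sit.qle` : `O₂(C_G(n)) ≤ P`; `Sit.qpp` : it acts on the points inside `⟨(p q)⟩`, `n = pr M p q`.
-/

set_option autoImplicit false

namespace Cfsg.Agent.Omega.IId.SymWr

open Subgroup Pointwise Cfsg Cfsg.Agent.ZN Cfsg.Agent.Omega.MinPar Cfsg.Agent.Omega.FFThm
open Cfsg.Agent.Omega.Half.SymA (Pt E Mv pm Amb0)

universe u

variable {G : Type u} [Group G] [Finite G] {P V : Subgroup G} {k m : ℕ} {S : Sylow 2 G}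
  {M : SymK (S : Subgroup G) P V ⊥ k m}

/-- **F1** for all duads -/
theorem Sit.fOne (h : Sit S P V M) {p q : Pt k m} (hpq : p.1 = q.1) (hne : p ≠ q) :
    ∀ g ∈ o2 (centralizer ({pr M p q} : Set G)), g ∈ P ∧ (pp M g = 1 ∨ pp M g = Equiv.swap p q) :=
  SymWrD.L_dat (SymWrD.SitD.of_sit h) hpq hne

/-- `O₂(C_G(n)) ≤ P` -/
theorem Sit.qle (h : Sit S P V M) {p q : Pt k m} (hpq : p.1 = q.1) (hne : p ≠ q) :
    o2 (centralizer ({pr M p q} : Set G)) ≤ P := fun g hg => (h.fOne hpq hne g hg).1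

/-- `O₂(C_G(n))` acts inside `⟨(p q)⟩` -/
theorem Sit.qpp (h : Sit S P V M) {p q : Pt k m} (hpq : p.1 = q.1) (hne : p ≠ q) {g : G}
    (hg : g ∈ o2 (centralizer ({pr M p q} : Set G))) : pp M g = 1 ∨ pp M g = Equiv.swap p q :=
  (h.fOne hpq hne g hg).2

end Cfsg.Agent.Omega.IId.SymWr

end

end
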